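import Cfsg.Agent.Lib.Linear.FrameSmall.Six.Cent

/-!
# An overgroup of the frame stabiliser in dimension six that does not contain `Ω`
-/

set_option autoImplicit false

namespace Cfsg.Lib.Linear.FrameSmall

open Module Cfsg.Lib.Linear.Orth
open scoped Matrix

variable {ι : Type} [Fintype ι] [DecidableEq ι] {F : Type*} [Field F]
  {Q : (ι → F) → F} {B : LinearMap.BilinForm F (ι → F)}
  {ν : F} {H : Subgroup (GL ι F)}

section Ctx

variable {e : Fin 6 → (ι → F)} [Finite F] (T : Ctx Q B e ν H)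
  (hΩ : ¬ Cfsg.Geo.omegaGL Q ≤ H) (p : ℕ) [Fact p.Prime] [CharP F p]

include T hΩ p

/-- An overgroup not containing `Ω` stabilises the frame. -/
theorem Ctx.le_stab_six : H ≤ Stab e := by
  classical
  intro k hk
  have X := T.frame
  have C := X.space
  have h2 := X.two
  have hI := T.le_iso hk
  refine T.pair_fix hΩ p hk (a := 0) (b := 1) (by decide) ?_
  set u := e 0 - e 1 with hu'
  set v := e 2 - e 3 with hv'
  obtain ⟨-, su⟩ := X.root_short (show (0 : Fin 6) ≠ 1 by decide)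
  obtain ⟨-, sv⟩ := X.root_short (show (2 : Fin 6) ≠ 3 by decide)
  obtain ⟨-, nu⟩ := X.root_norm (show (0 : Fin 6) ≠ 1 by decide)
  obtain ⟨-, nv⟩ := X.root_norm (show (2 : Fin 6) ≠ 3 by decide)
  rw [← hu'] at su nu; rw [← hv'] at sv nv
  have ouv : B u v = 0 := by simp [hu', hv', X.orth]
  have hne : ∀ i, Q (k.val *ᵥ e i) ≠ 0 := fun i => by rw [mem_iso.mp hI, X.norm]; exact X.nu
  obtain ⟨τ, hτ⟩ : ∃ τ, τ = k * (rGL Q (e 0) * rGL Q (e 1)) * k⁻¹ := ⟨_, rfl⟩
  obtain ⟨d, hd⟩ : ∃ d, d = rGL Q u * rGL Q v := ⟨_, rfl⟩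
  rw [← hτ]
  have hτr : τ = rGL Q (k.val *ᵥ e 0) * rGL Q (k.val *ᵥ e 1) := by
    rw [hτ, rr_conj C (X.Qne 0) (X.Qne 1) hI]
  have hτH : τ ∈ H := hτ ▸ mul_mem (mul_mem hk (T.rr_frame 0 1)) (inv_mem hk)
  have hdH : d ∈ H := hd ▸ T.rr_short su sv (c := 1) (by rw [nu, nv]; ring)
  have hττ : τ * τ = 1 := by
    rw [hτr]; exact rr_sq C (hne 0) (hne 1) (by rw [C.B_act hI, X.orth 0 1 (by decide)])
  have hdd : d * d = 1 := hd ▸ rr_sq C (su.Qne X) (sv.Qne X) ouv
  set r := τ * d with hr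
  have hrH : r ∈ H := mul_mem hτH hdH
  rcases Nat.even_or_odd (orderOf r) with ⟨j, hj⟩ | hodd
  swap
  · exfalso
    obtain ⟨t, ht⟩ := conj_of_odd hττ hdd hodd
    have hg : r ^ t * k ∈ H := mul_mem (pow_mem hrH t) hk
    have key : ∀ x ∈ plane (e 0) (e 1), (r ^ t * k).val *ᵥ x ∈ plane u v := fun x hx => by
      refine rr_eig C h2 (su.Qne X) (sv.Qne X) ?_
      rw [← hd, ← ht, ← hr, hτ, ← mul_act,
        show r ^ t * (k * (rGL Q (e 0) * rGL Q (e 1)) * k⁻¹) * (r ^ t)⁻¹ * (r ^ t * k) =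
          r ^ t * k * (rGL Q (e 0) * rGL Q (e 1)) by group,
        mul_act, rr_neg C (X.Qne 0) (X.Qne 1) (X.orth 0 1 (by decide)) hx, Matrix.mulVec_neg]
    exact T.no_roots hΩ p hg (a := 0) (b := 1) (by decide) (key _ (left_mem_plane _ _))
      (key _ (right_mem_plane _ _))
  have hj0 : j ≠ 0 := fun h0 => by
    have := orderOf_pos_iff.mpr (isOfFinOrder_of_finite r)
    omega
  obtain ⟨hz1, hzz, hzτ, hzd⟩ := pow_half hττ hdd hj hj0
  set z := r ^ j with hz
  have hzH : z ∈ H := pow_mem hrH j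
  have hzI := T.le_iso hzH
  have hzM : ∀ x ∈ plane u v, z.val *ᵥ x ∈ plane u v := fun x hx =>
    rr_eig C h2 (su.Qne X) (sv.Qne X) (by
      rw [← hd, ← mul_act, hzd, mul_act, hd, rr_neg C (su.Qne X) (sv.Qne X) ouv hx,
        Matrix.mulVec_neg])
  have hzst := T.fix_rr hΩ p hzH (hzM u (left_mem_plane u v)) (hzM v (right_mem_plane u v))
  have hzdet : z.val.det = 1 := by
    rw [hz, Units.val_pow_eq_pow_val, Matrix.det_pow, hr, Units.val_mul, Matrix.det_mul, hτr,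
      rr_det C (hne 0) (hne 1), hd, rr_det C (su.Qne X) (sv.Qne X), one_mul, one_pow]
  -- a fixed vector
  obtain ⟨x, hx0, hx⟩ : ∃ x : ι → F, x ≠ 0 ∧ z.val *ᵥ x = x := by
    let L : (ι → F) →ₗ[F] Fin 4 → F :=
      LinearMap.pi ![B (k.val *ᵥ e 0), B (k.val *ᵥ e 1), B u, B v]
    have hker : LinearMap.ker L ≠ ⊥ := fun h => by
      have h' := LinearMap.finrank_le_finrank_of_injective (LinearMap.ker_eq_bot.mp h)
      rw [finrank_fintype_fun_eq_card, finrank_fintype_fun_eq_card, X.card, Fintype.card_fin] at h'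
      omega
    obtain ⟨x, hx, hx0⟩ := Submodule.exists_mem_ne_zero_of_ne_bot hker
    rw [LinearMap.mem_ker] at hx
    have hc : ∀ i, L x i = 0 := fun i => by rw [hx]; rfl
    refine ⟨x, hx0, ?_⟩
    have h1 : τ.val *ᵥ x = x := hτr ▸ rr_fix C (hne 0) (hne 1)
      (by simpa [L] using hc 0) (by simpa [L] using hc 1)
    have h3 : d.val *ᵥ x = x := hd ▸ rr_fix C (su.Qne X) (sv.Qne X)
      (by simpa [L] using hc 2) (by simpa [L] using hc 3)
    have : ∀ t : ℕ, (r ^ t).val *ᵥ x = x := fun t => by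
      induction t with
      | zero => rw [pow_zero, Units.val_one, Matrix.one_mulVec]
      | succ t ih => rw [pow_succ, mul_act, hr, mul_act, h3, h1, ← hr, ih]
    exact this j
  obtain ⟨p', q', hp', hq', hdis, hpq, η, hη⟩ :=
    X.invol_six rfl hzst hzI hzz hz1 hzdet hx0 hx
  have hτI := T.le_iso hτH
  have hτP : ∀ y ∈ plane p' q', τ.val *ᵥ y ∈ plane p' q' := fun y hy => by
    rw [← hη] at hy ⊢
    rw [← mul_act, ← hzτ, mul_act, hy, Matrix.mulVec_smul]
  obtain ⟨π, ε, hε, hcase⟩ := normal_pair X hp' hq' hdis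
  have T' := T.perm π hε
  set f : Fin 6 → ι → F := fun i => ε i • e (π i) with hf
  have hSt : Stab f = Stab e := X.perm_stab π hε
  rw [← hSt]
  have hττ' : ∀ y, τ.val *ᵥ (τ.val *ᵥ y) = y := fun y => by
    rw [← mul_act, hττ, Units.val_one, Matrix.one_mulVec]
  rcases hcase with hc | hc | hc <;> rw [hc] at hτP
  · exact T'.fix_cc hΩ p hτH (a := 0) (b := 1) (by decide) (hτP _ (left_mem_plane _ _))
      (hτP _ (right_mem_plane _ _))
  · refine T'.fix_rc hΩ p hτH (x := 3) (y := 4) (z := 5) (by decide) (by decide) (by decide)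
      (fun i hi => ?_)
    have hw : ∀ w ∈ plane (f 0 - f 1) (f 2), B w (τ.val *ᵥ f i) = 0 := fun w hw => by
      rw [← hττ' w, C.B_act hτI]
      have h0 : B (f 0 - f 1) (f i) = 0 ∧ B (f 2) (f i) = 0 := by
        rcases hi with rfl | rfl | rfl <;> simp [T'.frame.orth]
      exact perp_plane h0.1 h0.2 (hτP w hw)
    have h01 := hw _ (left_mem_plane _ _)
    rw [map_sub, LinearMap.sub_apply, T'.frame.B_e, T'.frame.B_e, sub_eq_zero] at h01
    exact ⟨mul_left_cancel₀ X.two_nu h01, T'.frame.perp_coord (hw _ (right_mem_plane _ _))⟩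
  · exact T'.fix_rr hΩ p hτH (hτP _ (left_mem_plane _ _)) (hτP _ (right_mem_plane _ _))

end Ctx

end Cfsg.Lib.Linear.FrameSmall
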