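import Cfsg.Agent.Lib.Linear.FrameSmall.Six.Fuse

/-!
# Elements preserving the plane of two disjoint roots stabilise the frame
-/

set_option autoImplicit false

namespace Cfsg.Lib.Linear.FrameSmall

open Module Cfsg.Lib.Linear.Orth
open scoped Matrix

/-- Two involutions with product of odd order are conjugate. -/
theorem conj_of_odd {G : Type*} [Group G] {σ n : G} (hσ : σ * σ = 1) (hn : n * n = 1)
    (hodd : Odd (orderOf (σ * n))) : ∃ t : ℕ, (σ * n) ^ t * σ * ((σ * n) ^ t)⁻¹ = n := by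
  obtain ⟨t, ht⟩ := hodd
  refine ⟨t, ?_⟩
  set r := σ * n with hr
  have hn' : n⁻¹ = n := inv_eq_of_mul_eq_one_right hn
  have hσ' : σ⁻¹ = σ := inv_eq_of_mul_eq_one_right hσ
  have hsr : ∀ m : ℕ, σ * (r ^ m)⁻¹ = r ^ m * σ := fun m => by
    have h1 : σ * r⁻¹ * σ⁻¹ = r := by
      rw [hr, mul_inv_rev, hn', hσ']
      rw [show σ * (n * σ) * σ = σ * n * (σ * σ) by group, hσ, mul_one]
    rw [← inv_pow]
    have h2 := congrArg (· ^ m) h1
    simp only [conj_pow] at h2
    exact mul_inv_eq_iff_eq_mul.mp h2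
  have h3 : r ^ t * r ^ t = r⁻¹ := eq_inv_of_mul_eq_one_left (by
    rw [← pow_add, ← pow_succ, show t + t + 1 = 2 * t + 1 by ring, ← ht]
    exact pow_orderOf_eq_one r)
  rw [mul_assoc, hsr, ← mul_assoc, h3, hr, mul_inv_rev, hn', hσ', mul_assoc, hσ, mul_one]

/-- The central involution of the group generated by two involutions. -/
theorem pow_half {G : Type*} [Group G] {σ n : G} (hσ : σ * σ = 1) (hn : n * n = 1) {j : ℕ}
    (hj : orderOf (σ * n) = j + j) (hj0 : j ≠ 0) :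
    (σ * n) ^ j ≠ 1 ∧ (σ * n) ^ j * (σ * n) ^ j = 1 ∧ σ * (σ * n) ^ j = (σ * n) ^ j * σ ∧
      n * (σ * n) ^ j = (σ * n) ^ j * n := by
  set r := σ * n with hr
  have hn' : n⁻¹ = n := inv_eq_of_mul_eq_one_right hn
  have hσ' : σ⁻¹ = σ := inv_eq_of_mul_eq_one_right hσ
  have h1 : r ^ j ≠ 1 := fun h => by
    have := orderOf_le_of_pow_eq_one (Nat.pos_of_ne_zero hj0) h
    omega
  have h2 : r ^ j * r ^ j = 1 := by rw [← pow_add, ← hj]; exact pow_orderOf_eq_one r
  have hinv : (r ^ j)⁻¹ = r ^ j := inv_eq_of_mul_eq_one_right h2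
  have hc : σ * r * σ⁻¹ = r⁻¹ := by
    rw [hr, mul_inv_rev, hn', hσ', show σ * (σ * n) * σ = σ * σ * n * σ by group, hσ, one_mul]
  have h3 : σ * r ^ j = r ^ j * σ := by
    have := congrArg (· ^ j) hc
    simp only [conj_pow, inv_pow, hinv] at this
    exact mul_inv_eq_iff_eq_mul.mp this
  refine ⟨h1, h2, h3, ?_⟩
  have hnr : n = σ * r := by rw [hr, ← mul_assoc, hσ, one_mul]
  rw [hnr, mul_assoc, ← pow_succ', pow_succ, ← mul_assoc, h3, mul_assoc]

variable {ι : Type} [Fintype ι] [DecidableEq ι] {F : Type*} [Field F]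
  {Q : (ι → F) → F} {B : LinearMap.BilinForm F (ι → F)}
  {e : Fin 6 → (ι → F)} {ν : F} {H : Subgroup (GL ι F)}

theorem rr_eig (C : Space Q B) (h2 : (2 : F) ≠ 0) {p q y : ι → F} (hp : Q p ≠ 0) (hq : Q q ≠ 0)
    (hy : (rGL Q p * rGL Q q).val *ᵥ y = -y) : y ∈ plane p q := by
  have h := rr_sub_mem C hp hq y
  rw [hy] at h
  have h' := Submodule.smul_mem _ (-(2⁻¹ : F)) h
  convert h' using 1
  match_scalars
  field_simp
  ring

section Frame

variable (X : Frame Q B e ν)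

include X

theorem Frame.root_norm {i j : Fin 6} (h : i ≠ j) :
    Q (e i + e j) = 2 * ν ∧ Q (e i - e j) = 2 * ν := by
  refine ⟨?_, ?_⟩
  · have := X.Q_root h 1 (one_pow 2)
    rwa [one_smul] at this
  · have := X.Q_root h (-1) (by norm_num)
    rwa [neg_one_smul, ← sub_eq_add_neg] at this

theorem Frame.root_short {i j : Fin 6} (h : i ≠ j) :
    Short e (e i + e j) ∧ Short e (e i - e j) :=
  ⟨Or.inr ⟨i, j, h, 1, one_pow 2, by rw [one_smul]⟩,
    Or.inr ⟨i, j, h, -1, by norm_num, by rw [neg_one_smul, sub_eq_add_neg]⟩⟩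

/-- Two elements agreeing on six orthogonal roots are equal. -/
theorem Frame.ext_six {g h : GL ι F}
    (hu : g.val *ᵥ (e 0 - e 1) = h.val *ᵥ (e 0 - e 1))
    (hv : g.val *ᵥ (e 2 - e 3) = h.val *ᵥ (e 2 - e 3))
    (hA : g.val *ᵥ (e 0 + e 1) = h.val *ᵥ (e 0 + e 1))
    (hC : g.val *ᵥ (e 2 + e 3) = h.val *ᵥ (e 2 + e 3))
    (hE : g.val *ᵥ (e 4 + e 5) = h.val *ᵥ (e 4 + e 5))
    (hE' : g.val *ᵥ (e 4 - e 5) = h.val *ᵥ (e 4 - e 5)) : g = h := by
  have h2 := X.two
  have half : ∀ {a b : ι → F}, g.val *ᵥ (a + b) = h.val *ᵥ (a + b) →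
      g.val *ᵥ (a - b) = h.val *ᵥ (a - b) →
      g.val *ᵥ a = h.val *ᵥ a ∧ g.val *ᵥ b = h.val *ᵥ b := by
    intro a b h1 h3
    rw [Matrix.mulVec_add, Matrix.mulVec_add] at h1
    rw [Matrix.mulVec_sub, Matrix.mulVec_sub] at h3
    have e1 : (2 : F) • g.val *ᵥ a = (2 : F) • h.val *ᵥ a := by
      linear_combination (norm := module) h1 + h3
    have e2 : (2 : F) • g.val *ᵥ b = (2 : F) • h.val *ᵥ b := by
      linear_combination (norm := module) h1 - h3
    exact ⟨smul_right_injective _ h2 e1, smul_right_injective _ h2 e2⟩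
  obtain ⟨g0, g1⟩ := half hA hu
  obtain ⟨g2, g3⟩ := half hC hv
  obtain ⟨g4, g5⟩ := half hE hE'
  refine gl_ext fun y => ?_
  rw [← X.expand y, Matrix.mulVec_sum, Matrix.mulVec_sum]
  refine Finset.sum_congr rfl fun i _ => ?_
  rw [Matrix.mulVec_smul, Matrix.mulVec_smul]
  congr 1
  fin_cases i <;> assumption

/-- A short plane on a root and a combination of two disjoint roots. -/
theorem Frame.spl_mix {i j k l : Fin 6} (hnd : [i, j, k, l].Nodup) {s r t : F}
    (hs : s ≠ 0) (h : SPl B e ν (e i - e j) (r • (e i + e j) + t • (e k + s • e l))) :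
    r = 0 ∨ t = 0 := by
  simp only [List.nodup_cons, List.mem_cons, List.not_mem_nil, or_false, not_or, List.nodup_nil,
    and_true, not_false_iff] at hnd
  obtain ⟨⟨hij, hik, hil⟩, ⟨hjk, hjl⟩, hkl⟩ := hnd
  by_contra hrt
  push Not at hrt
  obtain ⟨u, v, hu, hv, hd, -, hpl⟩ := h
  have key : ∀ {x}, Short e x → x ∈ plane u v → i ∈ supp B e ν x := by
    intro x hx hxm
    rw [hpl] at hxm
    obtain ⟨a, b, rfl⟩ := Submodule.mem_span_pair.mp hxm
    have hsh : IsShort e _ := ⟨_, hx, 1, (one_smul F _).symm⟩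
    have t1 := hsh.three X (Ne.symm hkl) (Ne.symm hil) (Ne.symm hik)
    have t2 := hsh.three X (Ne.symm hkl) (Ne.symm hjl) (Ne.symm hjk)
    simp [co_add, co_sub, co_smul, X.co_e, hij, Ne.symm hij, hik, Ne.symm hik, hil, Ne.symm hil,
      hjk, Ne.symm hjk, hjl, Ne.symm hjl, hkl, Ne.symm hkl, hrt.1, hrt.2, hs] at t1 t2
    have hb : b = 0 := by
      by_contra hb
      simp [hb] at t1 t2
      exact mul_ne_zero X.two (mul_ne_zero hb hrt.1) (by linear_combination t1 + t2)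
    subst hb
    rw [mem_supp]
    refine fun h0 => hx.Qne X ?_
    simp [co_add, co_sub, co_smul, X.co_e, hij] at h0
    simp [h0, X.space.zero]
  exact Finset.disjoint_left.mp hd (key hu (left_mem_plane u v)) (key hv (right_mem_plane u v))

end Frame

section Ctx

variable [Finite F] (T : Ctx Q B e ν H) (hΩ : ¬ Cfsg.Geo.omegaGL Q ≤ H) (p : ℕ) [Fact p.Prime]
  [CharP F p]

include T hΩ p

/-- An element mapping a root to a root meeting it in no coordinate. -/
theorem Ctx.kill {l : GL ι F} (hl : l ∈ H) (hu : l.val *ᵥ (e 0 - e 1) = e 0 - e 1) {ε σ : F}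
    (hε : ε ^ 2 = 1) (hA : l.val *ᵥ (e 0 + e 1) = ε • (e 4 + σ • e 5)) {a b : Fin 6} (hab : a ≠ b)
    (ha : co B e ν a ((l⁻¹).val *ᵥ (e 0 + e 1) + ε • (l⁻¹).val *ᵥ (e 4 - σ • e 5)) ≠ 0)
    (hb : co B e ν b ((l⁻¹).val *ᵥ (e 0 + e 1) + ε • (l⁻¹).val *ᵥ (e 4 - σ • e 5)) ≠ 0) :
    False := by
  have X := T.frame
  have h2 := X.two
  have h1 : (-1 : F) ^ 2 = 1 := by norm_num
  obtain ⟨n, hn⟩ : ∃ n, n = rGL Q (e 1 + ε • e 4) * rGL Q (e 2 + (-1 : F) • e 3) := ⟨_, rfl⟩
  have hnH : n ∈ H := hn ▸ T.rr_root (by decide) (by decide) hε h1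
  have hco : ∀ x i, co B e ν i (n.val *ᵥ x) = ![co B e ν 0 x, -ε * co B e ν 4 x, co B e ν 3 x,
      co B e ν 2 x, -ε * co B e ν 1 x, co B e ν 5 x] i := by
    intro x i
    rw [hn, mul_act]
    simp only [X.co_root (show (1 : Fin 6) ≠ 4 by decide) _ hε,
      X.co_root (show (2 : Fin 6) ≠ 3 by decide) _ h1, neg_neg, one_mul]
    fin_cases i <;> simp
  have he0 : e 0 = (2⁻¹ : F) • ((e 0 + e 1) + (e 0 - e 1)) := by
    match_scalars <;> field_simp <;> ring
  have he1 : e 1 = (2⁻¹ : F) • ((e 0 + e 1) - (e 0 - e 1)) := by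
    match_scalars <;> field_simp <;> ring
  have hkH : l⁻¹ * n * l ∈ H := mul_mem (mul_mem (inv_mem hl) hnH) hl
  have hfix : (l⁻¹ * n * l).val *ᵥ e 0 = e 0 := by
    have h : n.val *ᵥ (l.val *ᵥ e 0) = l.val *ᵥ e 0 := by
      rw [he0, Matrix.mulVec_smul, Matrix.mulVec_add, hu, hA, Matrix.mulVec_smul]
      congr 1
      refine X.ext fun i => ?_
      rw [hco]
      fin_cases i <;> simp [co_add, co_sub, co_smul, X.co_e] <;> linear_combination hε
    rw [mul_act, mul_act, h, ← mul_act, inv_mul_cancel, Units.val_one, Matrix.one_mulVec]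
  have hst := T.fix_stab hΩ p hkH hfix
  have hk1 : (l⁻¹ * n * l).val *ᵥ e 1 =
      (-(2⁻¹ : F)) • ((l⁻¹).val *ᵥ (e 0 + e 1) + ε • (l⁻¹).val *ᵥ (e 4 - σ • e 5)) := by
    rw [mul_act, mul_act, he1, Matrix.mulVec_smul, Matrix.mulVec_sub, hu, hA,
      Matrix.mulVec_smul, Matrix.mulVec_smul, ← he1]
    rw [show n.val *ᵥ (ε • (e 4 + σ • e 5) - (e 0 - e 1)) =
        -((e 0 + e 1) + ε • (e 4 - σ • e 5)) from X.ext fun i => by
      rw [hco]
      fin_cases i <;> simp [co_add, co_sub, co_smul, co_neg, X.co_e] <;>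
        first
          | ring1
          | linear_combination -hε
          | linear_combination hε]
    simp only [Matrix.mulVec_neg, Matrix.mulVec_add, Matrix.mulVec_smul]
    module
  have h := X.stab_single hst (a := a) (b := b) (c := 1) hab (by
    rw [hk1, co_smul]; exact mul_ne_zero (neg_ne_zero.mpr (inv_ne_zero h2)) ha)
  rw [hk1, co_smul] at h
  exact mul_ne_zero (neg_ne_zero.mpr (inv_ne_zero h2)) hb h

omit hΩ p in
/-- Norms of multiples. -/
theorem Ctx.unit_coeff {l : GL ι F} (hl : l ∈ H) {x y : ι → F} (hx : Q x = 2 * ν)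
    (hy : Q y = 2 * ν) {r : F} (h : (l⁻¹).val *ᵥ x = r • y) :
    r ^ 2 = 1 ∧ l.val *ᵥ y = r • x := by
  have X := T.frame
  have hr : r ^ 2 = 1 := by
    have h' := mem_iso.mp (T.le_iso (inv_mem hl)) x
    rw [h, X.space.smul, hx, hy] at h'
    exact mul_right_cancel₀ X.two_nu (h'.trans (one_mul _).symm)
  refine ⟨hr, ?_⟩
  have h' := congrArg (fun z => r • l.val *ᵥ z) h
  simp only [Matrix.mulVec_smul, smul_smul, ← pow_two, hr, one_smul] at h'
  rw [← h', ← mul_act, mul_inv_cancel, Units.val_one, Matrix.one_mulVec]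

/-- An element fixing two roots and mapping a plane of two roots to itself or to the other. -/
theorem Ctx.fix_planes {l : GL ι F} (hl : l ∈ H) (hu : l.val *ᵥ (e 0 - e 1) = e 0 - e 1)
    (hv : l.val *ᵥ (e 2 - e 3) = e 2 - e 3)
    (h : (l.val *ᵥ (e 0 + e 1) ∈ plane (e 0 + e 1) (e 4 + e 5) ∧
        l.val *ᵥ (e 4 + e 5) ∈ plane (e 0 + e 1) (e 4 + e 5)) ∨
      (l.val *ᵥ (e 0 + e 1) ∈ plane (e 2 + e 3) (e 4 - e 5) ∧
        l.val *ᵥ (e 4 + e 5) ∈ plane (e 2 + e 3) (e 4 - e 5))) : l ∈ Stab e := by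
  classical
  have X := T.frame
  have C := X.space
  have h2 := X.two
  have hI := T.le_iso hl
  have hlH' := inv_mem hl
  have hI' := T.le_iso hlH'
  set u := e 0 - e 1 with hu'
  set v := e 2 - e 3 with hv'
  set A := e 0 + e 1 with hA'
  set A₂ := e 2 + e 3 with hC'
  set E := e 4 + e 5 with hE'
  set E₂ := e 4 - e 5 with hE₂
  obtain ⟨nA, nu⟩ := X.root_norm (show (0 : Fin 6) ≠ 1 by decide)
  obtain ⟨nA₂, nv⟩ := X.root_norm (show (2 : Fin 6) ≠ 3 by decide)
  obtain ⟨nE, nE₂⟩ := X.root_norm (show (4 : Fin 6) ≠ 5 by decide)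
  rw [← hu'] at nu; rw [← hv'] at nv; rw [← hA'] at nA; rw [← hC'] at nA₂
  rw [← hE'] at nE; rw [← hE₂] at nE₂
  have o : B u v = 0 ∧ B u A = 0 ∧ B u A₂ = 0 ∧ B u E = 0 ∧ B u E₂ = 0 ∧ B v A = 0 ∧ B v A₂ = 0 ∧
      B v E = 0 ∧ B v E₂ = 0 ∧ B A A₂ = 0 ∧ B A E = 0 ∧ B A E₂ = 0 ∧ B A₂ E = 0 ∧ B A₂ E₂ = 0 ∧
      B E E₂ = 0 := by
    simp [hu', hv', hA', hC', hE', hE₂, X.orth, X.self]
  obtain ⟨ouv, ouA, ouA₂, ouE, ouE₂, ovA, ovA₂, ovE, ovE₂, oAA₂, oAE, oAE₂, oA₂E, oA₂E₂, oEE₂⟩ := o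
  have hli : ∀ x, (l⁻¹).val *ᵥ (l.val *ᵥ x) = x := fun x => by
    rw [← mul_act, inv_mul_cancel, Units.val_one, Matrix.one_mulVec]
  have hiu : (l⁻¹).val *ᵥ u = u := by conv_lhs => rw [← hu, hli]
  have hiv : (l⁻¹).val *ᵥ v = v := by conv_lhs => rw [← hv, hli]
  have hcomp : ∀ x y, B (l.val *ᵥ x) y = B x ((l⁻¹).val *ᵥ y) := fun x y => by
    conv_rhs => rw [← C.B_act hI, ← mul_act, mul_inv_cancel, Units.val_one, Matrix.one_mulVec]
  have he : e 0 = (2⁻¹ : F) • (A + u) ∧ e 2 = (2⁻¹ : F) • (A₂ + v) ∧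
      e 4 = (2⁻¹ : F) • (E + E₂) := by
    refine ⟨?_, ?_, ?_⟩ <;> simp only [hu', hv', hA', hC', hE', hE₂] <;> match_scalars <;>
      field_simp <;> ring
  obtain ⟨he0, he2, he4⟩ := he
  -- `l⁻¹` of a root orthogonal to a fixed image
  have spl : ∀ {x y : ι → F} {c : Fin 6}, Short e x → Short e y → Q x = Q y → B x y = 0 →
      B x (l.val *ᵥ e c) = 0 → B y (l.val *ᵥ e c) = 0 →
      SPl B e ν ((l⁻¹).val *ᵥ x) ((l⁻¹).val *ᵥ y) := by
    intro x y c hx hy hxy hB h1 h3
    have hm := mul_mem (mul_mem hlH' (T.rr_short hx hy (c := 1) (by rw [hxy]; ring)))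
      (inv_mem hlH')
    rw [rr_conj C (hx.Qne X) (hy.Qne X) hI'] at hm
    have hx' : Q ((l⁻¹).val *ᵥ x) ≠ 0 := by rw [mem_iso.mp hI']; exact hx.Qne X
    have hy' : Q ((l⁻¹).val *ᵥ y) ≠ 0 := by rw [mem_iso.mp hI']; exact hy.Qne X
    refine X.short_two hx' hy' (by rw [C.B_act hI', hB]) (T.fix_stab hΩ p hm (c := c)
      (rr_fix C hx' hy' ?_ ?_))
    · rw [C.symm, ← hcomp, C.symm, h1]
    · rw [C.symm, ← hcomp, C.symm, h3]
  have sh : ∀ {i j : Fin 6}, i ≠ j → Short e (e i + e j) ∧ Short e (e i - e j) := fun h =>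
    X.root_short h
  -- the preimages of the plane
  have pre : ∀ {z : ι → F}, B u z = 0 → B v z = 0 → B A z = 0 → B E z = 0 →
      z ∈ plane A₂ E₂ := by
    intro z h1 h3 h5 h7
    simp only [hu', hv', hA', hE', map_add, map_sub, LinearMap.add_apply, LinearMap.sub_apply,
      X.B_e, ← mul_add, ← mul_sub] at h1 h3 h5 h7
    have t := fun {x : F} (h : 2 * ν * x = 0) => (mul_eq_zero.mp h).resolve_left X.two_nu
    have a1 := t h1; have a3 := t h3; have a5 := t h5; have a7 := t h7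
    have z0 : co B e ν 0 z = 0 := mul_left_cancel₀ h2 (by linear_combination a1 + a5)
    refine Submodule.mem_span_pair.mpr ⟨co B e ν 2 z, co B e ν 4 z, X.ext fun i => ?_⟩
    have z1 : co B e ν 1 z = 0 := by linear_combination z0 - a1
    have z3 : co B e ν 3 z = co B e ν 2 z := by linear_combination -a3
    have z5 : co B e ν 5 z = -co B e ν 4 z := by linear_combination a7
    simp only [hC', hE₂, co_add, co_sub, co_smul, X.co_e]
    fin_cases i <;> simp [z0, z1, z3, z5]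
  have pre' : ∀ {z : ι → F}, B u z = 0 → B v z = 0 → B A₂ z = 0 → B E₂ z = 0 →
      z ∈ plane A E := by
    intro z h1 h3 h5 h7
    simp only [hu', hv', hC', hE₂, map_add, map_sub, LinearMap.add_apply, LinearMap.sub_apply,
      X.B_e, ← mul_add, ← mul_sub] at h1 h3 h5 h7
    have t := fun {x : F} (h : 2 * ν * x = 0) => (mul_eq_zero.mp h).resolve_left X.two_nu
    have a1 := t h1; have a3 := t h3; have a5 := t h5; have a7 := t h7
    have z2 : co B e ν 2 z = 0 := mul_left_cancel₀ h2 (by linear_combination a3 + a5)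
    refine Submodule.mem_span_pair.mpr ⟨co B e ν 0 z, co B e ν 4 z, X.ext fun i => ?_⟩
    have z3 : co B e ν 3 z = 0 := by linear_combination z2 - a3
    have z1 : co B e ν 1 z = co B e ν 0 z := by linear_combination -a1
    have z5 : co B e ν 5 z = co B e ν 4 z := by linear_combination -a7
    simp only [hA', hE', co_add, co_sub, co_smul, X.co_e]
    fin_cases i <;> simp [z2, z3, z1, z5]
  have pdim : ∀ {a b x y : ι → F}, Q a = 2 * ν → Q b = 2 * ν → B a b = 0 → Q x = 2 * ν →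
      Q y = 2 * ν → B x y = 0 → x ∈ plane a b → y ∈ plane a b → plane x y = plane a b :=
    fun ha hb hab hx hy hxy h1 h3 => plane_eq C h2 (ha ▸ X.two_nu) (hb ▸ X.two_nu) hab
      (hx ▸ X.two_nu) (hy ▸ X.two_nu) hxy h1 h3
  have nl : ∀ x, Q (l.val *ᵥ x) = Q x := fun x => mem_iso.mp hI x
  have oimg : B (l.val *ᵥ A) (l.val *ᵥ E) = 0 := by rw [C.B_act hI, oAE]
  -- the frame image
  have short_img : ∀ {x y : ι → F} {c : Fin 6} {r : F}, e c = (2⁻¹ : F) • (x + y) →
      l.val *ᵥ x + l.val *ᵥ y = r • (x + y) → l ∈ Stab e := by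
    intro x y c r hc hxy
    refine T.maps_short hΩ p hl (a := c) ⟨e c, Or.inl ⟨c, rfl⟩, r, ?_⟩
    rw [hc, Matrix.mulVec_smul, Matrix.mulVec_add, hxy, smul_comm]
  have sgnA : ∀ {r : F}, r ^ 2 = 1 → l.val *ᵥ A = r • A → l ∈ Stab e := by
    intro r hr h
    rcases sq_eq_one_iff.mp hr with rfl | rfl
    · exact short_img (r := 1) he0 (by rw [h, hu]; module)
    · refine T.maps_short hΩ p hl (a := 0) ⟨e 1, Or.inl ⟨1, rfl⟩, -1, ?_⟩
      rw [he0, Matrix.mulVec_smul, Matrix.mulVec_add, hu, h, hA', hu']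
      match_scalars <;> field_simp <;> ring
  have inv_img : ∀ {x y : ι → F} {c : F}, c ^ 2 = 1 → l.val *ᵥ y = c • x →
      (l⁻¹).val *ᵥ x = c • y := fun {x y c} hc h => by
    have h' := congrArg (fun z => c • (l⁻¹).val *ᵥ z) h
    simp only [hli, Matrix.mulVec_smul, smul_smul, ← pow_two, hc, one_smul] at h'
    exact h'.symm
  have supp2 : ∀ {x y : ι → F} {r s : F} (a b : Fin 6), r ≠ 0 → s ≠ 0 → co B e ν a y = 0 →
      co B e ν b x = 0 → co B e ν a x ≠ 0 → co B e ν b y ≠ 0 →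
      co B e ν a (r • x + s • y) ≠ 0 ∧ co B e ν b (r • x + s • y) ≠ 0 := by
    intro x y r s a b hr hs h1 h3 h5 h7
    constructor <;> simp [co_add, co_smul, h1, h3, hr, hs, h5, h7]
  have ne1 : ∀ {r : F}, r ^ 2 = 1 → r ≠ 0 := fun h h0 => by simp [h0] at h
  rcases h with ⟨hA, hE⟩ | ⟨hA, hE⟩
  · have hpl := pdim nA nE oAE ((nl A).trans nA) ((nl E).trans nE) oimg hA hE
    have perp : ∀ {z w : ι → F}, B A z = 0 → B E z = 0 → w ∈ plane A E →
        B w (l.val *ᵥ z) = 0 := fun {z w} h1 h3 hw => by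
      rw [← hpl] at hw
      exact perp_plane (by rw [C.B_act hI, h1]) (by rw [C.B_act hI, h3]) hw
    have hC2 : l.val *ᵥ A₂ ∈ plane A₂ E₂ := pre (by rw [← hu, C.B_act hI, ouA₂])
      (by rw [← hv, C.B_act hI, ovA₂]) (perp oAA₂ (by rw [C.symm]; exact oA₂E) (left_mem_plane A E))
      (perp oAA₂ (by rw [C.symm]; exact oA₂E) (right_mem_plane A E))
    -- the root `A`
    have sA := spl (x := u) (y := A) (c := 2) (sh (by decide)).2 (sh (by decide)).1
      (nu.trans nA.symm) ouA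
      (by rw [← hu, C.B_act hI, he2]; simp [ouA₂, ouv])
      (by
        rw [he2, Matrix.mulVec_smul, Matrix.mulVec_add, hv, map_smul, map_add,
          C.symm A (l.val *ᵥ A₂),
          perp_plane (x := A) (by rw [C.symm]; exact oAA₂) (by rw [C.symm]; exact oAE₂) hC2,
          C.symm A v, ovA]
        simp)
    have sC := spl (x := v) (y := A₂) (c := 0) (sh (by decide)).2 (sh (by decide)).1
      (nv.trans nA₂.symm) ovA₂
      (by rw [← hv, C.B_act hI, he0]; simp [ovA, C.symm v u, ouv])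
      (by
        rw [he0, Matrix.mulVec_smul, Matrix.mulVec_add, hu, map_smul, map_add,
          C.symm A₂ (l.val *ᵥ A),
          perp_plane (x := A₂) oAA₂ (by rw [C.symm]; exact oA₂E) hA,
          C.symm A₂ u, ouA₂]
        simp)
    rw [hiu] at sA
    rw [hiv] at sC
    have pA : (l⁻¹).val *ᵥ A ∈ plane A E := by
      have hm := left_mem_plane A E
      rw [← hpl] at hm
      obtain ⟨r, t, hrt⟩ := Submodule.mem_span_pair.mp hm
      refine Submodule.mem_span_pair.mpr ⟨r, t, ?_⟩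
      conv_rhs => rw [← hrt, Matrix.mulVec_add, Matrix.mulVec_smul, Matrix.mulVec_smul, hli, hli]
    have pC : (l⁻¹).val *ᵥ A₂ ∈ plane A₂ E₂ := by
      refine pre (by rw [← hiu, C.B_act hI', ouA₂]) (by rw [← hiv, C.B_act hI', ovA₂]) ?_ ?_
      · rw [← hcomp]; exact perp_plane (by rw [oAA₂]) (by rw [C.symm, oA₂E]) hA
      · rw [← hcomp]; exact perp_plane (by rw [oAA₂]) (by rw [C.symm, oA₂E]) hE
    obtain ⟨r, t, hrt⟩ := Submodule.mem_span_pair.mp pA
    obtain ⟨r', t', hrt'⟩ := Submodule.mem_span_pair.mp pC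
    rcases X.spl_mix (i := 0) (j := 1) (k := 4) (l := 5) (r := r) (t := t) (by decide)
        (one_ne_zero (α := F)) (by rw [one_smul]; exact hrt ▸ sA) with hr | ht
    · rw [hr, zero_smul, zero_add] at hrt
      rcases X.spl_mix (i := 2) (j := 3) (k := 4) (l := 5) (r := r') (t := t') (by decide)
          (neg_ne_zero.mpr (one_ne_zero (α := F)))
          (by rw [neg_one_smul, ← sub_eq_add_neg]; exact hrt' ▸ sC) with hr' | ht'
      · rw [hr', zero_smul, zero_add] at hrt'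
        obtain ⟨q1, hlE⟩ := T.unit_coeff hl nA nE hrt.symm
        obtain ⟨q2, hlE₂⟩ := T.unit_coeff hl nA₂ nE₂ hrt'.symm
        -- `A ↦ E`
        obtain ⟨a, b, hab⟩ := Submodule.mem_span_pair.mp hA
        have ha : a = 0 := by
          have h0 : B (l.val *ᵥ E) (l.val *ᵥ A) = 0 := by rw [C.symm]; exact oimg
          rw [hlE, ← hab] at h0
          simp [oAE, C.self, nA, X.two, X.nu, ne1 q1] at h0
          exact h0
        rw [ha, zero_smul, zero_add] at hab
        have hb : b ^ 2 = 1 := by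
          have h := nl A
          rw [← hab, C.smul, nE, nA] at h
          exact mul_right_cancel₀ X.two_nu (h.trans (one_mul _).symm)
        -- `A₂ ↦ E₂`
        obtain ⟨d, d', hdd⟩ := Submodule.mem_span_pair.mp hC2
        have hd0 : d = 0 := by
          have h0 : B (l.val *ᵥ E₂) (l.val *ᵥ A₂) = 0 := by
            rw [C.B_act hI, C.symm]; exact oA₂E₂
          rw [hlE₂, ← hdd] at h0
          simp [oA₂E₂, C.self, nA₂, X.two, X.nu, ne1 q2] at h0
          exact h0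
        rw [hd0, zero_smul, zero_add] at hdd
        have hd1 : d' ^ 2 = 1 := by
          have h := nl A₂
          rw [← hdd, C.smul, nE₂, nA₂] at h
          exact mul_right_cancel₀ X.two_nu (h.trans (one_mul _).symm)
        refine (T.kill hΩ p hl hu (ε := b) (σ := 1) hb (by rw [one_smul]; exact hab.symm)
          (a := 4) (b := 2) (by decide) ?_ ?_).elim <;>
        · rw [one_smul, ← hA', ← hE₂, ← hrt]
          rw [inv_img hd1 hdd.symm]
          rw [smul_smul]
          first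
            | exact (supp2 4 2 (ne1 q1) (mul_ne_zero (ne1 hb) (ne1 hd1))
                (by simp [hC', co_add, X.co_e]) (by simp [hE', co_add, X.co_e])
                (by simp [hE', co_add, X.co_e]) (by simp [hC', co_add, X.co_e])).1
            | exact (supp2 4 2 (ne1 q1) (mul_ne_zero (ne1 hb) (ne1 hd1))
                (by simp [hC', co_add, X.co_e]) (by simp [hE', co_add, X.co_e])
                (by simp [hE', co_add, X.co_e]) (by simp [hC', co_add, X.co_e])).2
      · rw [ht', zero_smul, add_zero] at hrt'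
        obtain ⟨q, hlC⟩ := T.unit_coeff hl nA₂ nA₂ hrt'.symm
        rcases sq_eq_one_iff.mp q with rfl | rfl
        · exact short_img (r := 1) he2 (by rw [hlC, hv]; module)
        · refine T.maps_short hΩ p hl (a := 2) ⟨e 3, Or.inl ⟨3, rfl⟩, -1, ?_⟩
          rw [he2, Matrix.mulVec_smul, Matrix.mulVec_add, hv, hlC, hC', hv']
          match_scalars <;> field_simp <;> ring
    · rw [ht, zero_smul, add_zero] at hrt
      obtain ⟨q, hlA⟩ := T.unit_coeff hl nA nA hrt.symm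
      exact sgnA q hlA
  · have hpl := pdim nA₂ nE₂ oA₂E₂ ((nl A).trans nA) ((nl E).trans nE) oimg hA hE
    have hC2 : l.val *ᵥ A₂ ∈ plane A E := by
      refine pre' (by rw [← hu, C.B_act hI, ouA₂]) (by rw [← hv, C.B_act hI, ovA₂]) ?_ ?_ <;>
        refine perp_plane (p := l.val *ᵥ A) (q := l.val *ᵥ E) (by rw [C.B_act hI, oAA₂])
          (by rw [C.B_act hI, C.symm, oA₂E]) ?_ <;> rw [hpl]
      exacts [left_mem_plane _ _, right_mem_plane _ _]
    have pE₂ : (l⁻¹).val *ᵥ E₂ ∈ plane A E := by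
      have hm := right_mem_plane A₂ E₂
      rw [← hpl] at hm
      obtain ⟨r, t, hrt⟩ := Submodule.mem_span_pair.mp hm
      refine Submodule.mem_span_pair.mpr ⟨r, t, ?_⟩
      conv_rhs => rw [← hrt, Matrix.mulVec_add, Matrix.mulVec_smul, Matrix.mulVec_smul, hli, hli]
    have pE : (l⁻¹).val *ᵥ E ∈ plane A₂ E₂ := by
      refine pre (by rw [← hiu, C.B_act hI', ouE]) (by rw [← hiv, C.B_act hI', ovE]) ?_ ?_
      · rw [← hcomp]; exact perp_plane (by rw [oA₂E]) (by rw [C.symm, oEE₂]) hA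
      · rw [← hcomp]; exact perp_plane (by rw [oA₂E]) (by rw [C.symm, oEE₂]) hE
    have s1 := spl (x := u) (y := E₂) (c := 2) (sh (by decide)).2 (sh (by decide)).2
      (nu.trans nE₂.symm) ouE₂
      (by rw [← hu, C.B_act hI, he2]; simp [ouA₂, ouv])
      (by
        rw [he2, Matrix.mulVec_smul, Matrix.mulVec_add, hv, map_smul, map_add,
          C.symm E₂ (l.val *ᵥ A₂), perp_plane (x := E₂) oAE₂ oEE₂ hC2,
          C.symm E₂ v, ovE₂]
        simp)
    have s2 := spl (x := v) (y := E) (c := 0) (sh (by decide)).2 (sh (by decide)).1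
      (nv.trans nE.symm) ovE
      (by rw [← hv, C.B_act hI, he0]; simp [ovA, C.symm v u, ouv])
      (by
        rw [he0, Matrix.mulVec_smul, Matrix.mulVec_add, hu, map_smul, map_add,
          C.symm E (l.val *ᵥ A), perp_plane (x := E) oA₂E (by rw [C.symm]; exact oEE₂) hA,
          C.symm E u, ouE]
        simp)
    rw [hiu] at s1
    rw [hiv] at s2
    obtain ⟨r, t, hrt⟩ := Submodule.mem_span_pair.mp pE₂
    obtain ⟨r', t', hrt'⟩ := Submodule.mem_span_pair.mp pE
    rcases X.spl_mix (i := 0) (j := 1) (k := 4) (l := 5) (r := r) (t := t) (by decide)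
        (one_ne_zero (α := F)) (by rw [one_smul]; exact hrt ▸ s1) with hr | ht <;>
      rcases X.spl_mix (i := 2) (j := 3) (k := 4) (l := 5) (r := r') (t := t') (by decide)
        (neg_ne_zero.mpr (one_ne_zero (α := F)))
        (by rw [neg_one_smul, ← sub_eq_add_neg]; exact hrt' ▸ s2) with hr' | ht'
    · -- `E ↔ E₂`
      rw [hr, zero_smul, zero_add] at hrt
      rw [hr', zero_smul, zero_add] at hrt'
      obtain ⟨q1, hlE⟩ := T.unit_coeff hl nE₂ nE hrt.symm
      obtain ⟨q2, hlE₂⟩ := T.unit_coeff hl nE nE₂ hrt'.symm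
      refine T.maps_short hΩ p hl (a := 4) ?_
      rw [he4, Matrix.mulVec_smul, Matrix.mulVec_add, hlE, hlE₂, hE', hE₂]
      rcases sq_eq_one_iff.mp q1 with rfl | rfl <;> rcases sq_eq_one_iff.mp q2 with rfl | rfl
      · exact ⟨e 4, Or.inl ⟨4, rfl⟩, 1, by match_scalars <;> field_simp <;> ring⟩
      · exact ⟨e 5, Or.inl ⟨5, rfl⟩, -1, by match_scalars <;> field_simp <;> ring⟩
      · exact ⟨e 5, Or.inl ⟨5, rfl⟩, 1, by match_scalars <;> field_simp <;> ring⟩
      · exact ⟨e 4, Or.inl ⟨4, rfl⟩, -1, by match_scalars <;> field_simp <;> ring⟩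
    · -- `E ↦ E₂`, `A₂ ↦ E`
      rw [hr, zero_smul, zero_add] at hrt
      rw [ht', zero_smul, add_zero] at hrt'
      obtain ⟨q1, hlE⟩ := T.unit_coeff hl nE₂ nE hrt.symm
      obtain ⟨q2, hlC⟩ := T.unit_coeff hl nE nA₂ hrt'.symm
      obtain ⟨a, b, hab⟩ := Submodule.mem_span_pair.mp hA
      have hb : b = 0 := by
        have h0 : B (l.val *ᵥ E) (l.val *ᵥ A) = 0 := by rw [C.symm]; exact oimg
        rw [hlE, ← hab] at h0
        simp [C.symm E₂ A₂, oA₂E₂, C.self, nE₂, X.two, X.nu, ne1 q1] at h0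
        exact h0
      rw [hb, zero_smul, add_zero] at hab
      have ha : a ^ 2 = 1 := by
        have h := nl A
        rw [← hab, C.smul, nA₂, nA] at h
        exact mul_right_cancel₀ X.two_nu (h.trans (one_mul _).symm)
      -- exchange the two roots
      obtain ⟨π, hπ⟩ := exists_perm (show 6 ≤ 6 by norm_num) ![2, 3, 0, 1, 4, 5]
        (by decide : Function.Injective (![2, 3, 0, 1, 4, 5] : Fin 6 → Fin 6))
      simp only [Fin.castLE_refl] at hπ
      have hone : ∀ _i : Fin 6, (1 : F) ^ 2 = 1 := fun _ => one_pow 2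
      refine ((T.perm π hone).kill hΩ p hl (ε := r') (σ := 1) ?_ ?_ ?_
        (a := 2) (b := 4) (by decide) ?_ ?_).elim
      · simpa [hπ, hv'] using hv
      · exact q2
      · simpa [hπ, hC', hE'] using hlC
      all_goals
        rw [co_perm, one_mul, hπ]
        simp only [one_smul, hπ, Matrix.cons_val]
        rw [← hC', ← hE₂, inv_img ha hab.symm]
        have hiE : (l⁻¹).val *ᵥ E₂ = t • E := inv_img q1 hlE
        rw [hiE, smul_smul]
        first
          | exact (supp2 0 4 (ne1 ha) (mul_ne_zero (ne1 q2) (ne1 q1))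
              (by simp [hE', co_add, X.co_e]) (by simp [hA', co_add, X.co_e])
              (by simp [hA', co_add, X.co_e]) (by simp [hE', co_add, X.co_e])).1
          | exact (supp2 0 4 (ne1 ha) (mul_ne_zero (ne1 q2) (ne1 q1))
              (by simp [hE', co_add, X.co_e]) (by simp [hA', co_add, X.co_e])
              (by simp [hA', co_add, X.co_e]) (by simp [hE', co_add, X.co_e])).2
    · -- `A ↦ E₂`, `E₂ ↦ E`
      rw [ht, zero_smul, add_zero] at hrt
      rw [hr', zero_smul, zero_add] at hrt'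
      obtain ⟨q1, hlA⟩ := T.unit_coeff hl nE₂ nA hrt.symm
      obtain ⟨q2, -⟩ := T.unit_coeff hl nE nE₂ hrt'.symm
      obtain ⟨a, b, hab⟩ := Submodule.mem_span_pair.mp hC2
      have hb : b = 0 := by
        obtain ⟨-, hlE₂⟩ := T.unit_coeff hl nE nE₂ hrt'.symm
        have h0 : B (l.val *ᵥ E₂) (l.val *ᵥ A₂) = 0 := by
          rw [C.B_act hI, C.symm]; exact oA₂E₂
        rw [hlE₂, ← hab] at h0
        simp [C.symm E A, oAE, C.self, nE, X.two, X.nu, ne1 q2] at h0
        exact h0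
      rw [hb, zero_smul, add_zero] at hab
      have ha : a ^ 2 = 1 := by
        have h := nl A₂
        rw [← hab, C.smul, nA₂, nA] at h
        exact mul_right_cancel₀ X.two_nu (h.trans (one_mul _).symm)
      refine (T.kill hΩ p hl hu (ε := r) (σ := -1) q1
        (by rw [neg_one_smul, ← sub_eq_add_neg]; exact hlA) (a := 2) (b := 4) (by decide)
        ?_ ?_).elim <;>
      · rw [← hA', neg_one_smul, sub_neg_eq_add, ← hE', ← hrt', inv_img ha hab.symm, smul_smul]
        first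
          | exact (supp2 2 4 (ne1 ha) (mul_ne_zero (ne1 q1) (ne1 q2))
              (by simp [hE₂, co_sub, X.co_e]) (by simp [hC', co_add, X.co_e])
              (by simp [hC', co_add, X.co_e]) (by simp [hE₂, co_sub, X.co_e])).1
          | exact (supp2 2 4 (ne1 ha) (mul_ne_zero (ne1 q1) (ne1 q2))
              (by simp [hE₂, co_sub, X.co_e]) (by simp [hC', co_add, X.co_e])
              (by simp [hC', co_add, X.co_e]) (by simp [hE₂, co_sub, X.co_e])).2
    · -- `A ↦ E₂`, `A₂ ↦ E`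
      rw [ht, zero_smul, add_zero] at hrt
      rw [ht', zero_smul, add_zero] at hrt'
      obtain ⟨q1, hlA⟩ := T.unit_coeff hl nE₂ nA hrt.symm
      obtain ⟨q2, hlC⟩ := T.unit_coeff hl nE nA₂ hrt'.symm
      have pA : (l⁻¹).val *ᵥ A ∈ plane A₂ E₂ := by
        refine pre (by rw [← hiu, C.B_act hI', ouA]) (by rw [← hiv, C.B_act hI', ovA]) ?_ ?_
        · rw [← hcomp]; exact perp_plane (by rw [C.symm, oAA₂]) (by rw [C.symm, oAE₂]) hA
        · rw [← hcomp]; exact perp_plane (by rw [C.symm, oAA₂]) (by rw [C.symm, oAE₂]) hE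
      obtain ⟨a, b, hab⟩ := Submodule.mem_span_pair.mp pA
      have ha : a = 0 := by
        have h0 : B ((l⁻¹).val *ᵥ E) ((l⁻¹).val *ᵥ A) = 0 := by
          rw [C.B_act hI', C.symm]; exact oAE
        rw [← hrt', ← hab] at h0
        simp [oA₂E₂, C.self, nA₂, X.two, X.nu, ne1 q2] at h0
        exact h0
      rw [ha, zero_smul, zero_add] at hab
      obtain ⟨qb, -⟩ := T.unit_coeff hl nA nE₂ hab.symm
      refine (T.kill hΩ p hl hu (ε := r) (σ := -1) q1
        (by rw [neg_one_smul, ← sub_eq_add_neg]; exact hlA) (a := 4) (b := 2) (by decide)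
        ?_ ?_).elim <;>
      · rw [← hA', neg_one_smul, sub_neg_eq_add, ← hE', ← hrt', ← hab, smul_smul]
        first
          | exact (supp2 4 2 (ne1 qb) (mul_ne_zero (ne1 q1) (ne1 q2))
              (by simp [hC', co_add, X.co_e]) (by simp [hE₂, co_sub, X.co_e])
              (by simp [hE₂, co_sub, X.co_e]) (by simp [hC', co_add, X.co_e])).1
          | exact (supp2 4 2 (ne1 qb) (mul_ne_zero (ne1 q1) (ne1 q2))
              (by simp [hC', co_add, X.co_e]) (by simp [hE₂, co_sub, X.co_e])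
              (by simp [hE₂, co_sub, X.co_e]) (by simp [hC', co_add, X.co_e])).2

/-- An element preserving the plane of two disjoint roots stabilises the frame. -/
theorem Ctx.fix_rr {k : GL ι F} (hk : k ∈ H)
    (hu : k.val *ᵥ (e 0 - e 1) ∈ plane (e 0 - e 1) (e 2 - e 3))
    (hv : k.val *ᵥ (e 2 - e 3) ∈ plane (e 0 - e 1) (e 2 - e 3)) : k ∈ Stab e := by
  classical
  have X := T.frame
  have C := X.space
  have h2 := X.two
  have hkI := T.le_iso hk
  set u := e 0 - e 1 with hu'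
  set v := e 2 - e 3 with hv'
  set A := e 0 + e 1 with hA'
  set A₂ := e 2 + e 3 with hC'
  set E := e 4 + e 5 with hE'
  set E₂ := e 4 - e 5 with hE₂
  obtain ⟨sA, su⟩ := X.root_short (show (0 : Fin 6) ≠ 1 by decide)
  obtain ⟨sA₂, sv⟩ := X.root_short (show (2 : Fin 6) ≠ 3 by decide)
  obtain ⟨sE, sE₂⟩ := X.root_short (show (4 : Fin 6) ≠ 5 by decide)
  rw [← hu'] at su; rw [← hv'] at sv; rw [← hA'] at sA; rw [← hC'] at sA₂
  rw [← hE'] at sE; rw [← hE₂] at sE₂
  have o : B u v = 0 ∧ B A u = 0 ∧ B A v = 0 ∧ B E u = 0 ∧ B E v = 0 ∧ B A₂ u = 0 ∧ B A₂ v = 0 ∧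
      B E₂ u = 0 ∧ B E₂ v = 0 ∧ B A A₂ = 0 ∧ B A E = 0 ∧ B A E₂ = 0 ∧ B A₂ E = 0 ∧ B A₂ E₂ = 0 ∧
      B E E₂ = 0 := by
    simp [hu', hv', hA', hC', hE', hE₂, X.orth, X.self]
  obtain ⟨ouv, oAu, oAv, oEu, oEv, oA₂u, oA₂v, oE₂u, oE₂v, oAA₂, oAE, oAE₂, oA₂E, oA₂E₂, oEE₂⟩ := o
  have hQA : Q A = Q E := by
    rw [hA', hE', (X.root_norm (show (0 : Fin 6) ≠ 1 by decide)).1,
      (X.root_norm (show (4 : Fin 6) ≠ 5 by decide)).1]
  have hku : Q (k.val *ᵥ u) ≠ 0 := by rw [mem_iso.mp hkI]; exact su.Qne X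
  have hkv : Q (k.val *ᵥ v) ≠ 0 := by rw [mem_iso.mp hkI]; exact sv.Qne X
  have hM := plane_eq C h2 (su.Qne X) (sv.Qne X) ouv hku hkv (by rw [C.B_act hkI, ouv]) hu hv
  have hk45 : ∀ i : Fin 6, i = 4 ∨ i = 5 → ∀ w ∈ plane u v, B (k.val *ᵥ e i) w = 0 := by
    intro i hi w hw
    rw [← hM] at hw
    rw [C.symm]
    refine perp_plane ?_ ?_ hw <;> rw [C.B_act hkI] <;>
      rcases hi with rfl | rfl <;> simp [hu', hv', X.orth]
  have hne : ∀ i, Q (k.val *ᵥ e i) ≠ 0 := fun i => by rw [mem_iso.mp hkI, X.norm]; exact X.nu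
  -- the two involutions
  obtain ⟨σ, hσ⟩ : ∃ σ, σ = k * (rGL Q (e 4) * rGL Q (e 5)) * k⁻¹ := ⟨_, rfl⟩
  obtain ⟨n, hn⟩ : ∃ n, n = rGL Q A * rGL Q E := ⟨_, rfl⟩
  have hσr : σ = rGL Q (k.val *ᵥ e 4) * rGL Q (k.val *ᵥ e 5) := by
    rw [hσ, rr_conj C (X.Qne 4) (X.Qne 5) hkI]
  have hσH : σ ∈ H := hσ ▸ mul_mem (mul_mem hk (T.rr_frame 4 5)) (inv_mem hk)
  have hnH : n ∈ H := hn ▸ T.rr_short sA sE (c := 1) (by rw [hQA]; ring)
  have hσσ : σ * σ = 1 := by
    rw [hσr]; exact rr_sq C (hne 4) (hne 5) (by rw [C.B_act hkI, X.orth 4 5 (by decide)])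
  have hnn : n * n = 1 := hn ▸ rr_sq C (sA.Qne X) (sE.Qne X) oAE
  have hσfix : ∀ w ∈ plane u v, σ.val *ᵥ w = w := fun w hw => by
    rw [hσr]
    exact rr_fix C (hne 4) (hne 5) (hk45 4 (Or.inl rfl) w hw) (hk45 5 (Or.inr rfl) w hw)
  have hnfix : ∀ w ∈ plane u v, n.val *ᵥ w = w := fun w hw => by
    rw [hn]
    refine rr_fix C (sA.Qne X) (sE.Qne X) ?_ ?_ <;> rw [C.symm] <;> refine perp_plane ?_ ?_ hw <;>
      rw [C.symm] <;> assumption
  set r := σ * n with hr
  have hrH : r ∈ H := mul_mem hσH hnH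
  have hrfix : ∀ w ∈ plane u v, ∀ t : ℕ, (r ^ t).val *ᵥ w = w := by
    intro w hw t
    induction t with
    | zero => rw [pow_zero, Units.val_one, Matrix.one_mulVec]
    | succ t ih => rw [pow_succ, mul_act, hr, mul_act, hnfix w hw, hσfix w hw, ← hr, ih]
  have hneg : ∀ x ∈ plane A E, n.val *ᵥ x = -x := fun x hx =>
    hn ▸ rr_neg C (sA.Qne X) (sE.Qne X) oAE hx
  -- conjugate to the product of two roots
  have fused : ∀ {a b : ι → F}, Short e a → Short e b → ∀ {g : GL ι F}, g ∈ H →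
      g * (rGL Q (e 4) * rGL Q (e 5)) * g⁻¹ = rGL Q a * rGL Q b →
      g.val *ᵥ e 4 ∈ plane a b ∧ g.val *ᵥ e 5 ∈ plane a b := by
    intro a b ha hb g hg h
    have key : ∀ x ∈ plane (e 4) (e 5), g.val *ᵥ x ∈ plane a b := fun x hx => by
      refine rr_eig C h2 (ha.Qne X) (hb.Qne X) ?_
      rw [← h, ← mul_act, inv_mul_cancel_right, mul_act,
        rr_neg C (X.Qne 4) (X.Qne 5) (X.orth 4 5 (by decide)) hx, Matrix.mulVec_neg]
    exact ⟨key _ (left_mem_plane _ _), key _ (right_mem_plane _ _)⟩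
  suffices hσN : σ ∈ Stab e by
    refine T.pair_fix hΩ p hk (a := 4) (b := 5) (by decide) ?_
    exact hσ ▸ hσN
  rcases Nat.even_or_odd (orderOf r) with ⟨j, hj⟩ | hodd
  swap
  · exfalso
    obtain ⟨t, ht⟩ := conj_of_odd hσσ hnn hodd
    have hg : r ^ t * k ∈ H := mul_mem (pow_mem hrH t) hk
    obtain ⟨g4, g5⟩ := fused sA sE hg (by
      rw [← hn, ← ht, ← hr, hσ]; group)
    obtain ⟨π, hπ⟩ := exists_perm (show 6 ≤ 6 by norm_num) ![0, 1, 4, 5, 2, 3]
      (by decide : Function.Injective (![0, 1, 4, 5, 2, 3] : Fin 6 → Fin 6))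
    simp only [Fin.castLE_refl] at hπ
    have hε : ∀ i : Fin 6, (![1, -1, 1, -1, 1, 1] : Fin 6 → F) i ^ 2 = 1 := fun i => by
      fin_cases i <;> simp
    refine (T.perm π hε).no_roots hΩ p hg (a := 2) (b := 3) (by decide) ?_ ?_
    · simpa [hπ, hA', hE', Matrix.mulVec_neg] using g4
    · simpa [hπ, hA', hE', Matrix.mulVec_neg] using neg_mem g5
  have hj0 : j ≠ 0 := fun h0 => by
    have := orderOf_pos_iff.mpr (isOfFinOrder_of_finite r)
    omega
  obtain ⟨hz1, hzz, hzσ, hzn⟩ := pow_half hσσ hnn hj hj0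
  set z := r ^ j with hz
  have hzH : z ∈ H := pow_mem hrH j
  have hzu : z.val *ᵥ u = u := hrfix u (left_mem_plane u v) j
  have hzv : z.val *ᵥ v = v := hrfix v (right_mem_plane u v) j
  have hzpl : ∀ x ∈ plane A E, z.val *ᵥ x ∈ plane A E := fun x hx =>
    rr_eig C h2 (sA.Qne X) (sE.Qne X) (by
      rw [← hn, ← mul_act, hzn, mul_act, hneg x hx, Matrix.mulVec_neg])
  have hzst := T.fix_planes hΩ p hzH hzu hzv
    (Or.inl ⟨hzpl A (left_mem_plane A E), hzpl E (right_mem_plane A E)⟩)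
  have hzI := T.le_iso hzH
  have ne0 : ∀ {x : ι → F}, Short e x → ∀ {c : F}, z.val *ᵥ x = c • x → c ^ 2 = 1 := by
    intro x hx c h
    have h' := mem_iso.mp hzI x
    rw [h, C.smul] at h'
    exact mul_right_cancel₀ (hx.Qne X) (h'.trans (one_mul _).symm)
  have he : e 0 = (2⁻¹ : F) • (A + u) ∧ e 2 = (2⁻¹ : F) • (A₂ + v) := by
    refine ⟨?_, ?_⟩ <;> simp only [hu', hv', hA', hC'] <;> match_scalars <;> field_simp <;> ring
  -- the scalars of `z`
  obtain ⟨a, b, hab⟩ := Submodule.mem_span_pair.mp (hzpl A (left_mem_plane A E))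
  have hz0 : z.val *ᵥ e 0 = (2⁻¹ : F) • (a • A + b • E + u) := by
    rw [he.1, Matrix.mulVec_smul, Matrix.mulVec_add, hzu, hab]
  have hb0 : b = 0 := by
    by_contra hb
    have h := X.stab_single hzst (a := 4) (b := 5) (c := 0) (by decide)
      (by rw [hz0]; simp [hA', hE', hu', co_smul, co_add, co_sub, X.co_e, h2, hb])
    rw [hz0] at h
    simp [hA', hE', hu', co_smul, co_add, co_sub, X.co_e, h2, hb] at h
  rw [hb0, zero_smul, add_zero] at hab
  have hzA : z.val *ᵥ A = a • A := hab.symm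
  have ha := ne0 sA hzA
  have ha0 : a ≠ 0 := fun h => by simp [h] at ha
  obtain ⟨f1, f2, hE1⟩ := Submodule.mem_span_pair.mp (hzpl E (right_mem_plane A E))
  have hf1 : f1 = 0 := by
    have h := C.B_act hzI A E
    rw [hzA, ← hE1, oAE] at h
    simp [oAE, C.self, sA.Qne X, h2, ha0] at h
    exact h
  rw [hf1, zero_smul, zero_add] at hE1
  have hzE : z.val *ᵥ E = f2 • E := hE1.symm
  have hf := ne0 sE hzE
  have hf0 : f2 ≠ 0 := fun h => by simp [h] at hf
  -- the other plane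
  have pre : ∀ {w : ι → F}, B u w = 0 → B v w = 0 → B A w = 0 → B E w = 0 →
      ∃ c d : F, w = c • A₂ + d • E₂ := by
    intro w h1 h3 h5 h7
    simp only [hu', hv', hA', hE', map_add, map_sub, LinearMap.add_apply, LinearMap.sub_apply,
      X.B_e, ← mul_add, ← mul_sub] at h1 h3 h5 h7
    have t := fun {x : F} (h : 2 * ν * x = 0) => (mul_eq_zero.mp h).resolve_left X.two_nu
    have a1 := t h1; have a3 := t h3; have a5 := t h5; have a7 := t h7
    have z0 : co B e ν 0 w = 0 := mul_left_cancel₀ h2 (by linear_combination a1 + a5)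
    have z1 : co B e ν 1 w = 0 := by linear_combination z0 - a1
    have z3 : co B e ν 3 w = co B e ν 2 w := by linear_combination -a3
    have z5 : co B e ν 5 w = -co B e ν 4 w := by linear_combination a7
    refine ⟨co B e ν 2 w, co B e ν 4 w, X.ext fun i => ?_⟩
    simp only [hC', hE₂, co_add, co_sub, co_smul, X.co_e]
    fin_cases i <;> simp [z0, z1, z3, z5]
  have perpA : ∀ {x : ι → F}, B A x = 0 → B A (z.val *ᵥ x) = 0 := fun {x} h => by
    have h' := C.B_act hzI A x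
    rw [hzA, h, map_smul, LinearMap.smul_apply, smul_eq_mul] at h'
    exact (mul_eq_zero.mp h').resolve_left ha0
  have perpE : ∀ {x : ι → F}, B E x = 0 → B E (z.val *ᵥ x) = 0 := fun {x} h => by
    have h' := C.B_act hzI E x
    rw [hzE, h, map_smul, LinearMap.smul_apply, smul_eq_mul] at h'
    exact (mul_eq_zero.mp h').resolve_left hf0
  obtain ⟨c, d, hcd⟩ := pre (w := z.val *ᵥ A₂) (by rw [← hzu, C.B_act hzI, C.symm, oA₂u])
    (by rw [← hzv, C.B_act hzI, C.symm, oA₂v]) (perpA oAA₂)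
    (perpE (by rw [C.symm]; exact oA₂E))
  have hz2 : z.val *ᵥ e 2 = (2⁻¹ : F) • (c • A₂ + d • E₂ + v) := by
    rw [he.2, Matrix.mulVec_smul, Matrix.mulVec_add, hzv, hcd]
  have hd0 : d = 0 := by
    by_contra hd
    have h := X.stab_single hzst (a := 4) (b := 5) (c := 2) (by decide)
      (by rw [hz2]; simp [hC', hE₂, hv', co_smul, co_add, co_sub, X.co_e, h2, hd])
    rw [hz2] at h
    simp [hC', hE₂, hv', co_smul, co_add, co_sub, X.co_e, h2, hd] at h
  rw [hd0, zero_smul, add_zero] at hcd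
  have hc := ne0 sA₂ hcd
  have hc0 : c ≠ 0 := fun h => by simp [h] at hc
  obtain ⟨c', g, hcg⟩ := pre (w := z.val *ᵥ E₂) (by rw [← hzu, C.B_act hzI, C.symm, oE₂u])
    (by rw [← hzv, C.B_act hzI, C.symm, oE₂v]) (perpA oAE₂) (perpE oEE₂)
  have hc' : c' = 0 := by
    have h := C.B_act hzI A₂ E₂
    rw [hcd, hcg, oA₂E₂] at h
    simp [oA₂E₂, C.self, sA₂.Qne X, h2, hc0] at h
    exact h
  rw [hc', zero_smul, zero_add] at hcg
  have hg := ne0 sE₂ hcg
  -- the determinant
  have hdet : a * c * f2 * g = 1 := by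
    let S : (ι → F) → F → GL ι F := fun x s => if s = 1 then 1 else rGL Q x
    have act : ∀ {x : ι → F} {s : F}, Short e x → s ^ 2 = 1 →
        ((S x s).val *ᵥ x = s • x ∧ (∀ y, B x y = 0 → (S x s).val *ᵥ y = y)) ∧
          (S x s).val.det = s := by
      intro x s hx hs
      simp only [S]
      split_ifs with h
      · subst h
        simp
      · have hs' := (sq_eq_one_iff.mp hs).resolve_left h
        subst hs'
        exact ⟨⟨by rw [rGL_self C (hx.Qne X), neg_one_smul], fun y hy => rGL_fix C (hx.Qne X) hy⟩,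
          rGL_det C (hx.Qne X)⟩
    obtain ⟨⟨pA, qA⟩, dA⟩ := act sA ha
    obtain ⟨⟨pC, qC⟩, dC⟩ := act sA₂ hc
    obtain ⟨⟨pE, qE⟩, dE⟩ := act sE hf
    obtain ⟨⟨pG, qG⟩, dG⟩ := act sE₂ hg
    have heq : z = S A a * S A₂ c * S E f2 * S E₂ g := by
      refine X.ext_six ?_ ?_ ?_ ?_ ?_ ?_ <;>
        simp only [← hu', ← hv', ← hA', ← hC', ← hE', ← hE₂, mul_act]
      · rw [hzu, qG _ oE₂u, qE _ oEu, qC _ oA₂u, qA _ oAu]
      · rw [hzv, qG _ oE₂v, qE _ oEv, qC _ oA₂v, qA _ oAv]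
      · rw [hzA, qG _ (by rw [C.symm, oAE₂]), qE _ (by rw [C.symm, oAE]),
          qC _ (by rw [C.symm, oAA₂]), pA]
      · rw [hcd, qG _ (by rw [C.symm, oA₂E₂]), qE _ (by rw [C.symm, oA₂E]), pC,
          Matrix.mulVec_smul, qA _ oAA₂]
      · rw [hzE, qG _ (by rw [C.symm, oEE₂]), pE, Matrix.mulVec_smul, qC _ oA₂E,
          Matrix.mulVec_smul, qA _ oAE]
      · rw [hcg, pG, Matrix.mulVec_smul, qE _ oEE₂, Matrix.mulVec_smul, qC _ oA₂E₂,
          Matrix.mulVec_smul, qA _ oAE₂]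
    have hd : z.val.det = 1 := by
      rw [hz, Units.val_pow_eq_pow_val, Matrix.det_pow]
      have : r.val.det = 1 := by
        rw [hr, Units.val_mul, Matrix.det_mul, hσr, rr_det C (hne 4) (hne 5), hn,
          rr_det C (sA.Qne X) (sE.Qne X), one_mul]
      rw [this, one_pow]
    rw [heq, Units.val_mul, Units.val_mul, Units.val_mul, Matrix.det_mul, Matrix.det_mul,
      Matrix.det_mul, dA, dC, dE, dG] at hd
    exact hd
  -- `σ` commutes with `z`
  have hpres : ∀ (s : F) (x : ι → F), z.val *ᵥ x = s • x →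
      z.val *ᵥ (σ.val *ᵥ x) = s • σ.val *ᵥ x := fun s x h => by
    rw [← mul_act, ← hzσ, mul_act, h, Matrix.mulVec_smul]
  have hsu : σ.val *ᵥ u = u := hσfix u (left_mem_plane u v)
  have hsv : σ.val *ᵥ v = v := hσfix v (right_mem_plane u v)
  have hσI := T.le_iso hσH
  have hperp : ∀ {x}, B u x = 0 → B v x = 0 →
      B u (σ.val *ᵥ x) = 0 ∧ B v (σ.val *ᵥ x) = 0 := fun {x} h1 h3 =>
    ⟨by rw [← hsu, C.B_act hσI, h1], by rw [← hsv, C.B_act hσI, h3]⟩
  -- a vector orthogonal to `u`, `v`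
  have four : ∀ {w}, B u w = 0 → B v w = 0 → ∀ s : F, z.val *ᵥ w = s • w →
      ∃ α β γ δ : F, w = α • A + β • A₂ + γ • E + δ • E₂ ∧
        (a ≠ s → α = 0) ∧ (c ≠ s → β = 0) ∧ (f2 ≠ s → γ = 0) ∧ (g ≠ s → δ = 0) := by
    intro w h1 h3 s hs
    refine ⟨B A w / B A A, B A₂ w / B A₂ A₂, B E w / B E E, B E₂ w / B E₂ E₂, ?_, ?_⟩
    · simp only [hu', hv', map_sub, LinearMap.sub_apply, X.B_e, ← mul_sub] at h1 h3
      have a1 : co B e ν 1 w = co B e ν 0 w :=
        (sub_eq_zero.mp ((mul_eq_zero.mp h1).resolve_left X.two_nu)).symm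
      have a3 : co B e ν 3 w = co B e ν 2 w :=
        (sub_eq_zero.mp ((mul_eq_zero.mp h3).resolve_left X.two_nu)).symm
      refine X.ext fun i => ?_
      have := X.nu
      simp only [hA', hC', hE', hE₂, map_add, map_sub, LinearMap.add_apply, LinearMap.sub_apply,
        X.B_e, co_add, co_sub, co_smul, X.co_e]
      fin_cases i <;> simp [a1, a3] <;> field_simp <;>
        simp [← two_mul, h2] <;> ring_nf <;> simp [h2]
    · have hz' : ∀ {x : ι → F} {t : F}, z.val *ᵥ x = t • x → t ^ 2 = 1 → t ≠ s →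
          B x w / B x x = 0 := by
        intro x t hx ht hts
        have h := C.B_act hzI x w
        rw [hx, hs] at h
        simp only [map_smul, LinearMap.smul_apply, smul_eq_mul] at h
        have : (s - t) * B x w = 0 := by linear_combination t * h - s * B x w * ht
        rw [(mul_eq_zero.mp this).resolve_left (sub_ne_zero.mpr hts.symm), zero_div]
      exact ⟨hz' hzA ha, hz' hcd hc, hz' hzE hf, hz' hcg hg⟩
  -- `σ` preserves the last two frame vectors or one of the planes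
  have m1 : (-1 : F) ≠ 1 := fun h => h2 (by linear_combination -h)
  have img : ∀ {x : ι → F} {s : F}, B u x = 0 → B v x = 0 → z.val *ᵥ x = s • x →
      ∃ α β γ δ : F, σ.val *ᵥ x = α • A + β • A₂ + γ • E + δ • E₂ ∧
        (a ≠ s → α = 0) ∧ (c ≠ s → β = 0) ∧ (f2 ≠ s → γ = 0) ∧ (g ≠ s → δ = 0) :=
    fun h1 h3 hs => four (hperp h1 h3).1 (hperp h1 h3).2 _ (hpres _ _ hs)
  obtain ⟨α, β, γ, δ, hsA, iA, iA₂, iA3, iA4⟩ :=
    img (by rw [C.symm]; exact oAu) (by rw [C.symm]; exact oAv) hzA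
  obtain ⟨α', β', γ', δ', hsE, iE, iE₂, iE3, iE4⟩ :=
    img (by rw [C.symm]; exact oEu) (by rw [C.symm]; exact oEv) hzE
  obtain ⟨α'', β'', γ'', δ'', hsG, iG, iG₂, iG3, iG4⟩ :=
    img (by rw [C.symm]; exact oE₂u) (by rw [C.symm]; exact oE₂v) hcg
  have key : ∀ {x : F}, x ^ 2 = 1 → x = 1 ∨ x = -1 := fun h => sq_eq_one_iff.mp h
  have neq : ∀ {x y : F}, x ^ 2 = 1 → y ^ 2 = 1 → x ≠ y → y = -x := fun {x y} hx hy h => by
    rcases sq_eq_sq_iff_eq_or_eq_neg.mp (hy.trans hx.symm) with h' | h'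
    exacts [absurd h'.symm h, h']
  have hs0 : ∀ {x : F}, x ^ 2 = 1 → -x ≠ x := fun {x} hx h => by
    have : (2 : F) * x = 0 := by linear_combination -h
    rcases mul_eq_zero.mp this with h' | h'
    exacts [h2 h', by simp [h'] at hx]
  by_cases haf : a = f2
  · have hgc : g = c := by
      rw [← haf] at hdet
      linear_combination c * hdet - g * a ^ 2 * hc - g * ha
    by_cases hac : a = c
    · rcases key ha with ha1 | ha1
      · exact absurd (X.ext_six (g := z) (h := 1)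
          (by rw [← hu', hzu, Units.val_one, Matrix.one_mulVec])
          (by rw [← hv', hzv, Units.val_one, Matrix.one_mulVec])
          (by rw [← hA', hzA, ha1, one_smul, Units.val_one, Matrix.one_mulVec])
          (by rw [← hC', hcd, ← hac, ha1, one_smul, Units.val_one, Matrix.one_mulVec])
          (by rw [← hE', hzE, ← haf, ha1, one_smul, Units.val_one, Matrix.one_mulVec])
          (by rw [← hE₂, hcg, hgc, ← hac, ha1, one_smul, Units.val_one, Matrix.one_mulVec])) hz1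
      -- `z` negates all four roots
      exfalso
      obtain ⟨m, hm⟩ : ∃ m, m = rGL Q A₂ * rGL Q E₂ := ⟨_, rfl⟩
      have hmneg : ∀ x ∈ plane A₂ E₂, m.val *ᵥ x = -x := fun x hx =>
        hm ▸ rr_neg C (sA₂.Qne X) (sE₂.Qne X) oA₂E₂ hx
      have hmfix : ∀ x, B A₂ x = 0 → B E₂ x = 0 → m.val *ᵥ x = x := fun x h1 h3 =>
        hm ▸ rr_fix C (sA₂.Qne X) (sE₂.Qne X) h1 h3
      have hnf : ∀ x, B A x = 0 → B E x = 0 → n.val *ᵥ x = x := fun x h1 h3 =>
        hn ▸ rr_fix C (sA.Qne X) (sE.Qne X) h1 h3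
      have hnz : n * z = m := by
        refine X.ext_six ?_ ?_ ?_ ?_ ?_ ?_ <;> simp only [← hu', ← hv', ← hA', ← hC', ← hE', ← hE₂]
        · rw [mul_act, hzu, hnfix u (left_mem_plane u v), hmfix u oA₂u oE₂u]
        · rw [mul_act, hzv, hnfix v (right_mem_plane u v), hmfix v oA₂v oE₂v]
        · rw [mul_act, hzA, ha1, neg_one_smul, Matrix.mulVec_neg, hneg A (left_mem_plane A E),
            neg_neg, hmfix A (by rw [C.symm, oAA₂]) (by rw [C.symm, oAE₂])]
        · rw [mul_act, hcd, ← hac, ha1, neg_one_smul, Matrix.mulVec_neg,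
            hnf A₂ oAA₂ (by rw [C.symm, oA₂E]), hmneg A₂ (left_mem_plane A₂ E₂)]
        · rw [mul_act, hzE, ← haf, ha1, neg_one_smul, Matrix.mulVec_neg,
            hneg E (right_mem_plane A E), neg_neg, hmfix E oA₂E (by rw [C.symm, oEE₂])]
        · rw [mul_act, hcg, hgc, ← hac, ha1, neg_one_smul, Matrix.mulVec_neg,
            hnf E₂ oAE₂ oEE₂, hmneg E₂ (right_mem_plane A₂ E₂)]
      rcases Nat.even_or_odd j with ⟨i, hi⟩ | hjo
      · set w := r ^ i with hw
        have hwH : w ∈ H := pow_mem hrH i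
        have hσ' : σ⁻¹ = σ := inv_eq_of_mul_eq_one_right hσσ
        have hn' : n⁻¹ = n := inv_eq_of_mul_eq_one_right hnn
        have hconj : w * n = m * w := by
          have h1 : n * r * n⁻¹ = r⁻¹ := by
            rw [hr, mul_inv_rev, hn', hσ', show n * (σ * n) * n = n * σ * (n * n) by group, hnn,
              mul_one]
          have h3 := congrArg (· ^ i) h1
          simp only [conj_pow, inv_pow] at h3
          have h5 : n * w = w⁻¹ * n := mul_inv_eq_iff_eq_mul.mp h3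
          have h6 : w * w = z := by rw [hw, ← pow_add, ← hi]
          rw [← hnz, hzn, ← h6, mul_assoc (w * w), mul_assoc w w, ← mul_assoc w n w]
          rw [mul_assoc w n w, h5, ← mul_assoc w w⁻¹, mul_inv_cancel, one_mul]
        have hwp : ∀ x ∈ plane A E, w.val *ᵥ x ∈ plane A₂ E₂ := fun x hx =>
          rr_eig C h2 (sA₂.Qne X) (sE₂.Qne X) (by
            rw [← hm, ← mul_act, ← hconj, mul_act, hneg x hx, Matrix.mulVec_neg])
        have hwu : w.val *ᵥ u = u := hrfix u (left_mem_plane u v) i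
        have hwv : w.val *ᵥ v = v := hrfix v (right_mem_plane u v) i
        have hws := T.fix_planes hΩ p hwH hwu hwv
          (Or.inr ⟨hwp A (left_mem_plane A E), hwp E (right_mem_plane A E)⟩)
        obtain ⟨c₁, d₁, h⟩ := Submodule.mem_span_pair.mp (hwp A (left_mem_plane A E))
        have hw0 : w.val *ᵥ e 0 = (2⁻¹ : F) • (c₁ • A₂ + d₁ • E₂ + u) := by
          rw [he.1, Matrix.mulVec_smul, Matrix.mulVec_add, hwu, h]
        have h' := X.stab_single hws (a := 0) (b := 1) (c := 0) (by decide)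
          (by rw [hw0]; simp [hC', hE₂, hu', co_smul, co_add, co_sub, X.co_e, h2])
        rw [hw0] at h'
        simp [hC', hE₂, hu', co_smul, co_add, co_sub, X.co_e, h2] at h'
      · have hodd' : Odd (orderOf (σ * m)) := by
          have hσm : σ * m = r ^ (j + 1) := by
            rw [← hnz, ← mul_assoc, ← hr, hz, ← pow_succ']
          rw [hσm]
          obtain ⟨i, hi⟩ := hjo
          refine Odd.of_dvd_nat ⟨i, hi⟩ (orderOf_dvd_of_pow_eq_one ?_)
          rw [← pow_mul, show (j + 1) * j = orderOf r * (i + 1) by rw [hj, hi]; ring, pow_mul,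
            pow_orderOf_eq_one, one_pow]
        have hmH : m ∈ H := hnz ▸ mul_mem hnH hzH
        obtain ⟨t, ht⟩ := conj_of_odd hσσ (hm ▸ rr_sq C (sA₂.Qne X) (sE₂.Qne X) oA₂E₂) hodd'
        have hg' : (σ * m) ^ t * k ∈ H := mul_mem (pow_mem (mul_mem hσH hmH) t) hk
        obtain ⟨g4, g5⟩ := fused sA₂ sE₂ hg' (by
          rw [← hm, show ((σ * m) ^ t * k) * (rGL Q (e 4) * rGL Q (e 5)) * ((σ * m) ^ t * k)⁻¹ =
              (σ * m) ^ t * (k * (rGL Q (e 4) * rGL Q (e 5)) * k⁻¹) * ((σ * m) ^ t)⁻¹ by group,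
            ← hσ, ht])
        obtain ⟨π, hπ⟩ := exists_perm (show 6 ≤ 6 by norm_num) ![2, 3, 4, 5, 0, 1]
          (by decide : Function.Injective (![2, 3, 4, 5, 0, 1] : Fin 6 → Fin 6))
        simp only [Fin.castLE_refl] at hπ
        have hε : ∀ i : Fin 6, (![1, -1, 1, 1, 1, 1] : Fin 6 → F) i ^ 2 = 1 := fun i => by
          fin_cases i <;> simp
        refine (T.perm π hε).no_roots hΩ p hg' (a := 2) (b := 3) (by decide) ?_ ?_
        · simpa [hπ, hC', hE₂] using g4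
        · simpa [hπ, hC', hE₂] using g5
    · have h1 : g ≠ a := by rw [hgc]; exact Ne.symm hac
      refine T.fix_planes hΩ p hσH hsu hsv (Or.inl ⟨?_, ?_⟩)
      · rw [hsA, iA₂ (Ne.symm hac), iA4 h1]
        exact Submodule.mem_span_pair.mpr ⟨α, γ, by module⟩
      · rw [hsE, iE₂ (haf ▸ Ne.symm hac), iE4 (haf ▸ h1)]
        exact Submodule.mem_span_pair.mpr ⟨α', γ', by module⟩
  · have hfa : f2 = -a := neq ha hf haf
    have hgc : g = -c := by
      rw [hfa] at hdet
      linear_combination -c * hdet - g * a ^ 2 * hc - g * ha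
    by_cases hac : c = a
    · have hgf : g = f2 := by rw [hgc, hac, hfa]
      obtain ⟨π, hπ⟩ := exists_perm (show 6 ≤ 6 by norm_num) ![4, 5, 0, 1, 2, 3]
        (by decide : Function.Injective (![4, 5, 0, 1, 2, 3] : Fin 6 → Fin 6))
      simp only [Fin.castLE_refl] at hπ
      have hone : ∀ _i : Fin 6, (1 : F) ^ 2 = 1 := fun _ => one_pow 2
      have hc2 : c ≠ f2 := by rw [hac]; exact haf
      have mem45 : ∀ x, x = E ∨ x = E₂ → x ∈ plane (e 4) (e 5) := by
        rintro x (rfl | rfl)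
        · exact hE' ▸ add_mem (left_mem_plane _ _) (right_mem_plane _ _)
        · exact hE₂ ▸ sub_mem (left_mem_plane _ _) (right_mem_plane _ _)
      have pE : σ.val *ᵥ E ∈ plane (e 4) (e 5) := by
        rw [hsE, iE haf, iE₂ hc2, zero_smul, zero_smul, zero_add, zero_add]
        exact add_mem (Submodule.smul_mem _ _ (mem45 _ (Or.inl rfl)))
          (Submodule.smul_mem _ _ (mem45 _ (Or.inr rfl)))
      have pG : σ.val *ᵥ E₂ ∈ plane (e 4) (e 5) := by
        rw [hsG, iG (hgf.symm ▸ haf), iG₂ (hgf.symm ▸ hc2), zero_smul, zero_smul, zero_add,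
          zero_add]
        exact add_mem (Submodule.smul_mem _ _ (mem45 _ (Or.inl rfl)))
          (Submodule.smul_mem _ _ (mem45 _ (Or.inr rfl)))
      have h45 : e 4 = (2⁻¹ : F) • (E + E₂) ∧ e 5 = (2⁻¹ : F) • (E - E₂) := by
        refine ⟨?_, ?_⟩ <;> simp only [hE', hE₂] <;> match_scalars <;> field_simp <;> ring
      have p4 : σ.val *ᵥ e 4 ∈ plane (e 4) (e 5) := by
        rw [show σ.val *ᵥ e 4 = (2⁻¹ : F) • (σ.val *ᵥ E + σ.val *ᵥ E₂) by
          rw [h45.1, Matrix.mulVec_smul, Matrix.mulVec_add]]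
        exact Submodule.smul_mem _ _ (add_mem pE pG)
      have p5 : σ.val *ᵥ e 5 ∈ plane (e 4) (e 5) := by
        rw [show σ.val *ᵥ e 5 = (2⁻¹ : F) • (σ.val *ᵥ E - σ.val *ᵥ E₂) by
          rw [h45.2, Matrix.mulVec_smul, Matrix.mulVec_sub]]
        exact Submodule.smul_mem _ _ (sub_mem pE pG)
      have hSt : Stab (fun i => (1 : F) • e (π i)) = Stab e := X.perm_stab π hone
      rw [← hSt]
      refine (T.perm π hone).fix_cc hΩ p hσH (a := 0) (b := 1) (by decide) ?_ ?_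
      · simpa [hπ] using p4
      · simpa [hπ] using p5
    · have hca : c = f2 := by rw [hfa]; exact neq ha hc (Ne.symm hac)
      have hga : g = a := by rw [hgc, hca, hfa, neg_neg]
      have hε : ∀ i : Fin 6, (![1, 1, 1, 1, 1, -1] : Fin 6 → F) i ^ 2 = 1 := fun i => by
        fin_cases i <;> simp
      have pA : σ.val *ᵥ A ∈ plane A E₂ := by
        rw [hsA, iA₂ hac, iA3 (Ne.symm haf)]
        exact Submodule.mem_span_pair.mpr ⟨α, δ, by module⟩
      have pG : σ.val *ᵥ E₂ ∈ plane A E₂ := by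
        rw [hsG, iG₂ (hga.symm ▸ hac), iG3 (hga.symm ▸ Ne.symm haf)]
        exact Submodule.mem_span_pair.mpr ⟨α'', δ'', by module⟩
      have hSt : Stab (fun i => (![1, 1, 1, 1, 1, -1] : Fin 6 → F) i •
          e ((1 : Equiv.Perm (Fin 6)) i)) = Stab e := X.perm_stab 1 hε
      rw [← hSt]
      refine (T.perm 1 hε).fix_planes hΩ p hσH ?_ ?_ (Or.inl ⟨?_, ?_⟩)
      · simpa [hu'] using hsu
      · simpa [hv'] using hsv
      · simpa [hA', hE₂, ← sub_eq_add_neg] using pA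
      · simpa [hA', hE₂, ← sub_eq_add_neg] using pG

end Ctx

end Cfsg.Lib.Linear.FrameSmall
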