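import Cfsg.Agent.Lib.Linear.FrameSmall.Six.Pair

/-!
# No element maps two frame vectors into the plane of two disjoint roots
-/

set_option autoImplicit false

namespace Cfsg.Lib.Linear.FrameSmall

open Module Cfsg.Lib.Linear.Orth
open scoped Matrix

variable {ι : Type} [Fintype ι] [DecidableEq ι] {F : Type*} [Field F]
  {Q : (ι → F) → F} {B : LinearMap.BilinForm F (ι → F)}
  {e g : Fin 6 → (ι → F)} {ν : F} {H : Subgroup (GL ι F)}

omit [Fintype ι] [DecidableEq ι] in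
theorem co_perm (π : Equiv.Perm (Fin 6)) (ε : Fin 6 → F) (i : Fin 6) (x : ι → F) :
    co B (fun j => ε j • e (π j)) ν i x = ε i * co B e ν (π i) x := by
  simp [co]
  ring

theorem six_inj {i j q r : Fin 6} (hij : i ≠ j) (hiq : i ≠ q) (hir : i ≠ r) (hjq : j ≠ q)
    (hjr : j ≠ r) (hqr : q ≠ r) (hi : i ≠ 0 ∧ i ≠ 1) (hj : j ≠ 0 ∧ j ≠ 1) (hq : q ≠ 0 ∧ q ≠ 1)
    (hr : r ≠ 0 ∧ r ≠ 1) : Function.Injective (![0, 1, i, j, q, r] : Fin 6 → Fin 6) := by
  rw [← List.nodup_ofFn]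
  simp [List.ofFn_succ, hij, hiq, hir, hjq, hjr, hqr, hi.1.symm, hi.2.symm, hj.1.symm, hj.2.symm,
    hq.1.symm, hq.2.symm, hr.1.symm, hr.2.symm]

theorem five_inj {i j q : Fin 6} (hij : i ≠ j) (hiq : i ≠ q) (hjq : j ≠ q)
    (hi : i ≠ 0 ∧ i ≠ 1) (hj : j ≠ 0 ∧ j ≠ 1) (hq : q ≠ 0 ∧ q ≠ 1) :
    Function.Injective (![0, 1, i, j, q] : Fin 5 → Fin 6) := by
  rw [← List.nodup_ofFn]
  simp [List.ofFn_succ, hij, hiq, hjq, hi.1.symm, hi.2.symm, hj.1.symm, hj.2.symm,
    hq.1.symm, hq.2.symm]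

omit [Fintype ι] [DecidableEq ι] in
/-- Short vectors do not depend on the order and signs of the frame. -/
theorem IsShort.perm {w : ι → F} (h : IsShort e w) (π : Equiv.Perm (Fin 6)) {ε : Fin 6 → F}
    (hε : ∀ i, ε i ^ 2 = 1) : IsShort (fun i => ε i • e (π i)) w := by
  obtain ⟨s, hs, d, rfl⟩ := h
  have hinv : ∀ x, e x = ε (π.symm x) • (fun i => ε i • e (π i)) (π.symm x) := fun x => by
    rw [smul_smul, ← pow_two, hε, one_smul, Equiv.apply_symm_apply]
  rcases hs with ⟨x, rfl⟩ | ⟨x, y, hxy, σ, hσ, rfl⟩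
  · exact ⟨_, Or.inl ⟨π.symm x, rfl⟩, d * ε (π.symm x), by rw [hinv x, smul_smul]⟩
  · refine ⟨_, Or.inr ⟨π.symm x, π.symm y, fun h => hxy (π.symm.injective h),
      σ * ε (π.symm y) * ε (π.symm x), by rw [mul_pow, mul_pow, hσ, hε, hε]; ring, rfl⟩,
      d * ε (π.symm x), ?_⟩
    rw [hinv x, hinv y]
    simp only [smul_add, smul_smul]
    congr 2 <;> first
      | ring1
      | linear_combination -(d * σ * ε (π.symm y) ^ 2) * hε (π.symm x)

section Frame

variable (X : Frame Q B e ν)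

include X

theorem IsShort.three {w : ι → F} (h : IsShort e w) {a b c : Fin 6} (hab : a ≠ b) (hac : a ≠ c)
    (hbc : b ≠ c) : co B e ν a w = 0 ∨ co B e ν b w = 0 ∨ co B e ν c w = 0 := by
  classical
  obtain ⟨u, hu, d, rfl⟩ := h
  by_contra hne
  push Not at hne
  simp only [co_smul] at hne
  have hsub : ({a, b, c} : Finset (Fin 6)) ⊆ supp B e ν u := by
    simp only [Finset.insert_subset_iff, Finset.singleton_subset_iff, mem_supp]
    exact ⟨right_ne_zero_of_mul hne.1, right_ne_zero_of_mul hne.2.1, right_ne_zero_of_mul hne.2.2⟩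
  have h3 : ({a, b, c} : Finset (Fin 6)).card = 3 :=
    Finset.card_eq_three.mpr ⟨a, b, c, hab, hac, hbc, rfl⟩
  have := Finset.card_le_card hsub
  have := (hu.sq_eq X).1
  omega

/-- A short vector of norm `2ν`: a root, or a multiple of a frame vector. -/
theorem Frame.short_norm {w : ι → F} (hw : Q w = 2 * ν) (h : IsShort e w) :
    (∃ (i : Fin 6) (c : F), c ^ 2 = 2 ∧ w = c • e i) ∨
      ∃ (i j : Fin 6) (c d : F), i ≠ j ∧ c ^ 2 = 1 ∧ d ^ 2 = 1 ∧ w = c • e i + d • e j := by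
  obtain ⟨u, hu, c, rfl⟩ := h
  rw [X.space.smul] at hw
  rcases hu with ⟨i, rfl⟩ | ⟨i, j, hij, σ, hσ, rfl⟩
  · rw [X.norm] at hw
    exact Or.inl ⟨i, c, mul_right_cancel₀ X.nu hw, rfl⟩
  · rw [X.Q_root hij σ hσ] at hw
    have hc : c ^ 2 = 1 := mul_right_cancel₀ X.two_nu (by rw [hw, one_mul])
    exact Or.inr ⟨i, j, c, c * σ, hij, hc, by rw [mul_pow, hc, hσ, one_mul],
      by rw [smul_add, smul_smul]⟩

theorem Frame.isShort_pair {i j : Fin 6} (hij : i ≠ j) {c d : F} (h : c ^ 2 = d ^ 2) :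
    IsShort e (c • e i + d • e j) := by
  by_cases hc : c = 0
  · have hd : d = 0 := by simpa [hc] using h.symm
    exact ⟨e i, Or.inl ⟨i, rfl⟩, 0, by simp [hc, hd]⟩
  exact ⟨_, Or.inr ⟨i, j, hij, d / c, by rw [div_pow, ← h, div_self (pow_ne_zero 2 hc)], rfl⟩, c,
    by rw [smul_add, smul_smul, mul_div_cancel₀ d hc]⟩

theorem Frame.B_single (i : Fin 6) (c : F) (x : ι → F) :
    B (c • e i) x = 2 * ν * (c * co B e ν i x) := by
  rw [map_smul, LinearMap.smul_apply, X.B_e, smul_eq_mul]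
  ring

theorem Frame.B_double (i j : Fin 6) (c d : F) (x : ι → F) :
    B (c • e i + d • e j) x = 2 * ν * (c * co B e ν i x + d * co B e ν j x) := by
  rw [map_add, LinearMap.add_apply, X.B_single, X.B_single]
  ring

/-- Two orthogonal short vectors of norm `2ν` whose sum is not short. -/
theorem Frame.short_sum {w v : ι → F} (hw : Q w = 2 * ν) (hv : Q v = 2 * ν) (hwv : B w v = 0)
    (sw : IsShort e w) (sv : IsShort e v) (hs : ¬ IsShort e (w + v)) :
    (∃ (i j p q : Fin 6) (c1 c2 c3 c4 : F), [i, j, p, q].Nodup ∧ c1 ^ 2 = 1 ∧ c2 ^ 2 = 1 ∧ c3 ^ 2 = 1 ∧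
      c4 ^ 2 = 1 ∧ w = c1 • e i + c2 • e j ∧ v = c3 • e p + c4 • e q) ∨
    ∃ (i j p : Fin 6) (c1 c2 c : F), [i, j, p].Nodup ∧ c1 ^ 2 = 1 ∧ c2 ^ 2 = 1 ∧ c ^ 2 = 2 ∧
      ((w = c1 • e i + c2 • e j ∧ v = c • e p) ∨ (v = c1 • e i + c2 • e j ∧ w = c • e p)) := by
  have ne0 : ∀ {c : F}, c ^ 2 = 1 → c ≠ 0 := fun h h0 => by simp [h0] at h
  have ne0' : ∀ {c : F}, c ^ 2 = 2 → c ≠ 0 := fun h h0 => by
    rw [h0] at h; exact X.two (by linear_combination -h)
  -- a root and a frame vector are disjoint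
  have cross : ∀ {i j p : Fin 6} {c1 c2 c : F}, i ≠ j → c1 ^ 2 = 1 → c2 ^ 2 = 1 → c ^ 2 = 2 →
      B (c • e p) (c1 • e i + c2 • e j) = 0 → p ≠ i ∧ p ≠ j := by
    intro i j p c1 c2 c hij h1 h2 hc hB
    rw [X.B_single, co_add, co_smul, co_smul, X.co_e, X.co_e] at hB
    have := (mul_eq_zero.mp hB).resolve_left X.two_nu
    refine ⟨fun h => ?_, fun h => ?_⟩ <;> subst h
    · simp [hij, ne0 h1, ne0' hc] at this
    · simp [hij.symm, ne0 h2, ne0' hc] at this
  rcases X.short_norm hw sw with ⟨i, c, hc, rfl⟩ | ⟨i, j, c, d, hij, hc, hd, rfl⟩ <;>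
    rcases X.short_norm hv sv with ⟨p, c', hc', rfl⟩ | ⟨p, q, c', d', hpq, hc', hd', rfl⟩
  · refine absurd (X.isShort_pair (fun h => ?_) (hc.trans hc'.symm)) hs
    subst h
    rw [X.B_single, co_smul, X.co_e, if_pos rfl, mul_one] at hwv
    exact mul_ne_zero X.two_nu (mul_ne_zero (ne0' hc) (ne0' hc')) hwv
  · obtain ⟨h1, h2⟩ := cross hpq hc' hd' hc hwv
    exact Or.inr ⟨p, q, i, c', d', c, by simp [hpq, h1.symm, h2.symm], hc', hd', hc,
      Or.inr ⟨rfl, rfl⟩⟩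
  · obtain ⟨h1, h2⟩ := cross hij hc hd hc' (by rw [X.space.symm]; exact hwv)
    exact Or.inr ⟨i, j, p, c, d, c', by simp [hij, h1.symm, h2.symm], hc, hd, hc',
      Or.inl ⟨rfl, rfl⟩⟩
  · rw [X.B_double, co_add, co_smul, co_smul, co_add, co_smul, co_smul] at hwv
    simp only [X.co_e] at hwv
    have hz := (mul_eq_zero.mp hwv).resolve_left X.two_nu
    have := ne0 hc
    have := ne0 hd
    have := ne0 hc'
    have := ne0 hd'
    by_cases hip : i = p
    · subst hip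
      by_cases hjq : j = q
      · subst hjq
        refine absurd ?_ hs
        simp [hij, hij.symm] at hz
        have hcd : c = c' ∨ c = -c' := sq_eq_sq_iff_eq_or_eq_neg.mp (hc.trans hc'.symm)
        rw [show c • e i + d • e j + (c' • e i + d' • e j) = (c + c') • e i + (d + d') • e j by
          module]
        rcases hcd with rfl | rfl
        · have : d + d' = 0 := mul_left_cancel₀ ‹d ≠ 0› (by linear_combination hz - hc + hd)
          exact ⟨e i, Or.inl ⟨i, rfl⟩, c + c, by simp [this]⟩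
        · exact ⟨e j, Or.inl ⟨j, rfl⟩, d + d', by simp⟩
      · simp [hij, hij.symm, hpq, hpq.symm, hjq, Ne.symm hjq] at hz
        simp_all
    by_cases hiq : i = q
    · subst hiq
      by_cases hjp : j = p
      · subst hjp
        refine absurd ?_ hs
        simp [hij, hij.symm] at hz
        have hcd : c = d' ∨ c = -d' := sq_eq_sq_iff_eq_or_eq_neg.mp (hc.trans hd'.symm)
        rw [show c • e i + d • e j + (c' • e j + d' • e i) = (c + d') • e i + (d + c') • e j by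
          module]
        rcases hcd with rfl | rfl
        · have : d + c' = 0 := mul_left_cancel₀ ‹d ≠ 0› (by linear_combination hz - hc + hd)
          exact ⟨e i, Or.inl ⟨i, rfl⟩, c + c, by simp [this]⟩
        · exact ⟨e j, Or.inl ⟨j, rfl⟩, d + c', by simp⟩
      · simp [hij, hij.symm, hpq, hpq.symm, hjp, Ne.symm hjp, hip] at hz
        simp_all
    have hjp : j ≠ p := fun h => by
      subst h
      simp [hij, hij.symm, hpq, hiq] at hz
      simp_all
    have hjq : j ≠ q := fun h => by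
      subst h
      simp [hij, hpq.symm, hip, hjp] at hz
      simp_all
    exact Or.inl ⟨i, j, p, q, c, d, c', d', by simp [hij, hip, hiq, hjp, hjq, hpq], hc, hd, hc',
      hd', rfl, rfl⟩

end Frame

section Ctx

variable [Finite F] (T : Ctx Q B e ν H) (hΩ : ¬ Cfsg.Geo.omegaGL Q ≤ H) (p : ℕ) [Fact p.Prime]
  [CharP F p]

include T

theorem Ctx.cls_signed {c : F} (hc : c ^ 2 = 1) (j : Fin 6) : Cls Q e ν H (c • e j) := by
  have hQ : Q (c • e j) = ν := by rw [T.frame.space.smul, T.frame.norm, hc, one_mul]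
  exact T.cls_std hQ (Std.of_short T.frame (Or.inl ⟨j, rfl⟩) hQ)

include hΩ p

/-- The two disjoint roots. -/
theorem Ctx.fuse_two (T' : Ctx Q B g ν H) {l : GL ι F} (hl : l ∈ H)
    (hE : l.val *ᵥ (e 4 + e 5) = g 2 + g 3) (hE' : l.val *ᵥ (e 4 - e 5) = g 4 + g 5)
    (hA : IsShort g (l.val *ᵥ (e 0 + e 1))) (hC : IsShort g (l.val *ᵥ (e 2 + e 3)))
    (a0 : co B g ν 0 (l.val *ᵥ (e 0 + e 1)) = 0) (a1 : co B g ν 1 (l.val *ᵥ (e 0 + e 1)) = 0)
    (c0 : co B g ν 0 (l.val *ᵥ (e 2 + e 3)) = 0) (c1 : co B g ν 1 (l.val *ᵥ (e 2 + e 3)) = 0) :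
    False := by
  have X := T.frame
  have Y := T'.frame
  have C := X.space
  have hI := T.le_iso hl
  have perp : ∀ (a b c d : Fin 6) (σ : F), a ≠ c → a ≠ d → b ≠ c → b ≠ d →
      B (e a + σ • e b) (e c + e d) = 0 := by
    intro a b c d σ h1 h2 h3 h4
    simp [X.orth, h1, h2, h3, h4]
  -- the shape of the image
  have shape : ∀ w, IsShort g w → Q w = 2 * ν → co B g ν 0 w = 0 → co B g ν 1 w = 0 →
      B (g 2 + g 3) w = 0 → B (g 4 + g 5) w = 0 →
      (∃ a : F, a ^ 2 = 1 ∧ w = a • (g 2 - g 3)) ∨ ∃ a : F, a ^ 2 = 1 ∧ w = a • (g 4 - g 5) := by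
    intro w hw hQ w0 w1 h23 h45
    rw [map_add, LinearMap.add_apply, Y.B_e, Y.B_e, ← mul_add] at h23 h45
    have e23 : co B g ν 3 w = -co B g ν 2 w := by
      linear_combination (mul_eq_zero.mp h23).resolve_left Y.two_nu
    have e45 : co B g ν 5 w = -co B g ν 4 w := by
      linear_combination (mul_eq_zero.mp h45).resolve_left Y.two_nu
    rw [Y.Q_co, Fin.sum_univ_six, w0, w1, e23, e45] at hQ
    by_cases h2 : co B g ν 2 w = 0
    · refine Or.inr ⟨co B g ν 4 w, mul_left_cancel₀ Y.two_nu ?_, Y.ext fun i => ?_⟩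
      · rw [h2] at hQ; linear_combination hQ
      · rw [co_smul, co_sub, Y.co_e, Y.co_e]
        fin_cases i <;> simp [w0, w1, h2, e23, e45]
    · have h4 : co B g ν 4 w = 0 := by
        rcases hw.three Y (a := 2) (b := 3) (c := 4) (by decide) (by decide) (by decide) with
          h | h | h
        exacts [absurd h h2, absurd (neg_eq_zero.mp (e23.symm.trans h)) h2, h]
      refine Or.inl ⟨co B g ν 2 w, mul_left_cancel₀ Y.two_nu ?_, Y.ext fun i => ?_⟩
      · rw [h4] at hQ; linear_combination hQ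
      · rw [co_smul, co_sub, Y.co_e, Y.co_e]
        fin_cases i <;> simp [w0, w1, h4, e23, e45]
  set A := e 0 + e 1 with hAdef
  set A' := e 2 + e 3 with hA'def
  have hBl : ∀ x y, B x y = 0 → B (l.val *ᵥ x) (l.val *ᵥ y) = 0 := fun x y h => by
    rw [C.B_act hI, h]
  have norm2 : ∀ {i j : Fin 6}, i ≠ j → Q (e i + e j) = 2 * ν := fun {i j} h => by
    have := X.Q_root h 1 (one_pow 2)
    rwa [one_smul] at this
  have hAA : B A A' = 0 := by
    have := perp 0 1 2 3 1 (by decide) (by decide) (by decide) (by decide)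
    rwa [one_smul] at this
  have hEA : ∀ i j : Fin 6, i ≠ 4 → i ≠ 5 → j ≠ 4 → j ≠ 5 →
      B (g 2 + g 3) (l.val *ᵥ (e i + e j)) = 0 ∧ B (g 4 + g 5) (l.val *ᵥ (e i + e j)) = 0 := by
    intro i j i4 i5 j4 j5
    rw [← hE, ← hE']
    refine ⟨hBl _ _ ?_, hBl _ _ ?_⟩
    · simpa using perp 4 5 i j 1 i4.symm j4.symm i5.symm j5.symm
    · simpa [sub_eq_add_neg] using perp 4 5 i j (-1) i4.symm j4.symm i5.symm j5.symm
  obtain ⟨qA1, qA2⟩ := hEA 0 1 (by decide) (by decide) (by decide) (by decide)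
  obtain ⟨qC1, qC2⟩ := hEA 2 3 (by decide) (by decide) (by decide) (by decide)
  have sA := shape _ hA (by rw [mem_iso.mp hI, norm2 (by decide)]) a0 a1 qA1 qA2
  have sC := shape _ hC (by rw [mem_iso.mp hI, norm2 (by decide)]) c0 c1 qC1 qC2
  have same : ∀ {i j : Fin 6}, i ≠ j → ∀ a b : F, a ^ 2 = 1 → b ^ 2 = 1 →
      B (a • (g i - g j)) (b • (g i - g j)) ≠ 0 := by
    intro i j h a b ha hb h0
    have hQ := Y.Q_root h (-1) (by norm_num)
    rw [neg_one_smul, ← sub_eq_add_neg] at hQ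
    simp only [map_smul, LinearMap.smul_apply, smul_eq_mul, C.self, hQ] at h0
    exact mul_ne_zero (fun h => by simp [h] at hb) (mul_ne_zero (fun h => by simp [h] at ha)
      (mul_ne_zero X.two X.two_nu)) h0
  -- the cycle
  have h1 : (-1 : F) ^ 2 = 1 := by norm_num
  obtain ⟨c, hc⟩ : ∃ c, c = rGL Q (g 2 + (-1 : F) • g 3) * rGL Q (g 3 + (-1 : F) • g 4) :=
    ⟨_, rfl⟩
  have hcH : c ∈ H := hc ▸ T'.rr_root (by decide) (by decide) h1 h1
  have hco : ∀ x i, co B g ν i (c.val *ᵥ x) = ![co B g ν 0 x, co B g ν 1 x, co B g ν 4 x,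
      co B g ν 2 x, co B g ν 3 x, co B g ν 5 x] i := by
    intro x i
    rw [hc, mul_act]
    simp only [Y.co_root (show (2 : Fin 6) ≠ 3 by decide) _ h1,
      Y.co_root (show (3 : Fin 6) ≠ 4 by decide) _ h1, neg_neg, one_mul]
    fin_cases i <;> simp
  set m := l⁻¹ * c * l with hm
  have hmH : m ∈ H := mul_mem (mul_mem (inv_mem hl) hcH) hl
  have hinv : ∀ x, (l⁻¹).val *ᵥ (l.val *ᵥ x) = x := fun x => by
    rw [← mul_act, inv_mul_cancel, Units.val_one, Matrix.one_mulVec]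
  have hm4 : m.val *ᵥ e 4 = e 4 := by
    have h4 : e 4 = (2⁻¹ : F) • (e 4 + e 5 + (e 4 - e 5)) := by
      have := X.two
      match_scalars <;> field_simp <;> ring
    have hfix : c.val *ᵥ (l.val *ᵥ e 4) = l.val *ᵥ e 4 := by
      rw [h4, Matrix.mulVec_smul, Matrix.mulVec_add, hE, hE', Matrix.mulVec_smul]
      congr 1
      refine Y.ext fun i => ?_
      rw [hco]
      fin_cases i <;> simp [co_add, Y.co_e]
    rw [hm, mul_act, mul_act, hfix, hinv]
  have hst := T.fix_stab hΩ p hmH hm4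
  have final : ∀ {L L' : ι → F} {a b : F}, a ^ 2 = 1 → b ^ 2 = 1 →
      l.val *ᵥ L = a • (g 2 - g 3) → l.val *ᵥ L' = b • (g 4 - g 5) →
      m.val *ᵥ L = a • (e 5 - (2⁻¹ : F) • (a • L + b • L')) := by
    intro L L' a b ha hb hL hL'
    rw [hm, mul_act, mul_act, hL, Matrix.mulVec_smul, Matrix.mulVec_smul,
      show c.val *ᵥ (g 2 - g 3) = g 3 - g 4 from Y.ext fun i => by
        rw [hco]; fin_cases i <;> simp [co_sub, Y.co_e],
      show g 3 - g 4 = l.val *ᵥ (e 5 - (2⁻¹ : F) • (a • L + b • L')) by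
        have key : e 5 = (2⁻¹ : F) • ((e 4 + e 5) - (e 4 - e 5)) := by
          have := X.two
          match_scalars <;> field_simp <;> ring
        rw [key, Matrix.mulVec_sub, Matrix.mulVec_smul, Matrix.mulVec_smul, Matrix.mulVec_add,
          Matrix.mulVec_smul, Matrix.mulVec_smul, hL, hL', Matrix.mulVec_sub, hE, hE', smul_smul,
          smul_smul, ← pow_two, ← pow_two, ha, hb]
        have := X.two
        match_scalars <;> field_simp <;> ring, hinv]
  rcases sA with ⟨a, ha, hLA⟩ | ⟨a, ha, hLA⟩ <;> rcases sC with ⟨b, hb, hLC⟩ | ⟨b, hb, hLC⟩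
  · exact same (by decide) a b ha hb (hLA ▸ hLC ▸ hBl _ _ hAA)
  · have hf := final ha hb hLA hLC
    have h := X.stab_double hst (a := 5) (b := 0) (c := 2) (p := 0) (q := 1) (by decide) (by decide)
      (by decide) 1 1
    rw [one_smul, one_smul, ← hAdef, hf] at h
    have : a ≠ 0 := fun h => by simp [h] at ha
    have : b ≠ 0 := fun h => by simp [h] at hb
    simp [hAdef, hA'def, co_smul, co_sub, co_add, X.co_e, X.two, *] at h
  · have hf := final hb ha hLC hLA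
    have h := X.stab_double hst (a := 5) (b := 0) (c := 2) (p := 2) (q := 3) (by decide) (by decide)
      (by decide) 1 1
    rw [one_smul, one_smul, ← hA'def, hf] at h
    have : a ≠ 0 := fun h => by simp [h] at ha
    have : b ≠ 0 := fun h => by simp [h] at hb
    simp [hAdef, hA'def, co_smul, co_sub, co_add, X.co_e, X.two, *] at h
  · exact same (by decide) a b ha hb (hLA ▸ hLC ▸ hBl _ _ hAA)

/-- A root and a multiple of a frame vector. -/
theorem Ctx.fuse_one (T' : Ctx Q B g ν H) (hg : ∀ i, Cls Q e ν H (g i)) {l : GL ι F} (hl : l ∈ H)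
    (hns : l ∉ Stab e) {c : F} (h4 : l.val *ᵥ e 4 = (2⁻¹ : F) • (g 2 + g 3 + c • g 4))
    (hk0 : (l⁻¹).val *ᵥ g 0 ∈ plane (e 0 - e 1) (e 2 - e 3))
    (hA : IsShort g (l.val *ᵥ (e 0 + e 1))) (hC : IsShort g (l.val *ᵥ (e 2 + e 3)))
    (zA : ∀ i : Fin 6, i = 0 ∨ i = 1 ∨ i = 4 → co B g ν i (l.val *ᵥ (e 0 + e 1)) = 0)
    (zC : ∀ i : Fin 6, i = 0 ∨ i = 1 ∨ i = 4 → co B g ν i (l.val *ᵥ (e 2 + e 3)) = 0)
    (sA : co B g ν 3 (l.val *ᵥ (e 0 + e 1)) = -co B g ν 2 (l.val *ᵥ (e 0 + e 1)))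
    (sC : co B g ν 3 (l.val *ᵥ (e 2 + e 3)) = -co B g ν 2 (l.val *ᵥ (e 2 + e 3))) : False := by
  have X := T.frame
  have Y := T'.frame
  have C := X.space
  have hI := T.le_iso hl
  set A := e 0 + e 1 with hAdef
  set A' := e 2 + e 3 with hA'def
  have hAA : B (l.val *ᵥ A) (l.val *ᵥ A') = 0 := by
    rw [C.B_act hI, hAdef, hA'def]
    simp [X.orth]
  have hne : ∀ {i j : Fin 6}, i ≠ j → Q (l.val *ᵥ (e i + e j)) ≠ 0 := fun {i j} h => by
    have := X.root_ne h 1 (one_pow 2)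
    rw [one_smul] at this
    rwa [mem_iso.mp hI]
  -- one of the two is on the last coordinate
  obtain ⟨L, hL, d, hd, hLd⟩ : ∃ L, (L = A ∨ L = A') ∧ ∃ d : F, d ≠ 0 ∧
      l.val *ᵥ L = d • g 5 := by
    have dich : ∀ w, IsShort g w → (∀ i : Fin 6, i = 0 ∨ i = 1 ∨ i = 4 → co B g ν i w = 0) →
        co B g ν 3 w = -co B g ν 2 w →
        co B g ν 5 w = 0 ∨ w = co B g ν 5 w • g 5 := by
      intro w hw z s
      by_cases h2 : co B g ν 2 w = 0
      · refine Or.inr (Y.ext fun i => ?_)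
        rw [co_smul, Y.co_e]
        fin_cases i <;> simp [z, h2, s]
      · rcases hw.three Y (a := 2) (b := 3) (c := 5) (by decide) (by decide) (by decide) with
          h | h | h
        exacts [absurd h h2, absurd (neg_eq_zero.mp (s.symm.trans h)) h2, Or.inl h]
    have nz : ∀ {i j : Fin 6}, i ≠ j →
        l.val *ᵥ (e i + e j) = co B g ν 5 (l.val *ᵥ (e i + e j)) • g 5 →
        co B g ν 5 (l.val *ᵥ (e i + e j)) ≠ 0 := fun {i j} h he h0 => hne h (by
      rw [he, h0, zero_smul, C.zero])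
    rcases dich _ hA zA sA with hA5 | hA5
    · rcases dich _ hC zC sC with hC5 | hC5
      · exfalso
        rw [Y.B_co, Fin.sum_univ_six] at hAA
        simp [zA, zC, sA, sC, hA5, hC5, X.two, X.nu, ← two_mul] at hAA
        rcases hAA with h | h
        · exact hne (show (0 : Fin 6) ≠ 1 by decide) (by
            rw [← hAdef, Y.Q_co, Fin.sum_univ_six]; simp [zA, sA, hA5, h])
        · exact hne (show (2 : Fin 6) ≠ 3 by decide) (by
            rw [← hA'def, Y.Q_co, Fin.sum_univ_six]; simp [zC, sC, hC5, h])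
      · exact ⟨A', Or.inr rfl, _, nz (show (2 : Fin 6) ≠ 3 by decide) hC5, hC5⟩
    · exact ⟨A, Or.inl rfl, _, nz (show (0 : Fin 6) ≠ 1 by decide) hA5, hA5⟩
  set k := l⁻¹ with hk
  have hkH : k ∈ H := inv_mem hl
  have hkI := T.le_iso hkH
  have hkl : ∀ x, k.val *ᵥ (l.val *ᵥ x) = x := fun x => by
    rw [hk, ← mul_act, inv_mul_cancel, Units.val_one, Matrix.one_mulVec]
  have hk5 : k.val *ᵥ g 5 = d⁻¹ • L := by
    have h := congrArg (fun x => k.val *ᵥ x) hLd
    simp only [hkl, Matrix.mulVec_smul] at h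
    rw [h, smul_smul, inv_mul_cancel₀ hd, one_smul]
  -- the pair `g 0`, `g 5`
  have hmem : rGL Q (k.val *ᵥ g 0) * rGL Q (k.val *ᵥ g 5) ∈ H := by
    rw [← rr_conj C (Y.Qne 0) (Y.Qne 5) hkI]
    exact mul_mem (mul_mem hkH (T'.rr_frame 0 5)) (inv_mem hkH)
  have hne' : ∀ i, Q (k.val *ᵥ g i) ≠ 0 := fun i => by
    rw [mem_iso.mp hkI, Y.norm]; exact Y.nu
  have hperp : ∀ i, co B g ν i (l.val *ᵥ e 4) = 0 → B (k.val *ᵥ g i) (e 4) = 0 := fun i h => by
    rw [← hkl (e 4), C.B_act hkI, Y.B_e, h, mul_zero]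
  have hs := T.fix_stab hΩ p hmem (c := 4) (rr_fix C (hne' 0) (hne' 5)
    (hperp 0 (by rw [h4]; simp [co_smul, co_add, Y.co_e]))
    (hperp 5 (by rw [h4]; simp [co_smul, co_add, Y.co_e])))
  obtain ⟨u, v, hu, hv, hd', -, hpl⟩ :=
    X.short_two (hne' 0) (hne' 5) (by rw [C.B_act hkI, Y.orth 0 5 (by decide)]) hs
  obtain ⟨α, β, hab⟩ := Submodule.mem_span_pair.mp hk0
  have hns' : ¬ IsShort e (k.val *ᵥ g 0) := fun ⟨w, hw, r, hr⟩ => hns (by
    have hQ : Q (k.val *ᵥ g 0) = ν := by rw [mem_iso.mp hkI, Y.norm]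
    have hcl : Cls Q e ν H (k.val *ᵥ g 0) := T.cls_std hQ (by
      rw [hr] at hQ ⊢; exact Std.of_short X hw hQ)
    have := T.maps hΩ p hkH (hg 0) hcl
    simpa [hk] using inv_mem this)
  have hα : α ≠ 0 := fun h => hns' ⟨_, Or.inr ⟨2, 3, by decide, -1, by norm_num, rfl⟩, β, by
    rw [← hab, h]; module⟩
  have hβ : β ≠ 0 := fun h => hns' ⟨_, Or.inr ⟨0, 1, by decide, -1, by norm_num, rfl⟩, α, by
    rw [← hab, h]; module⟩
  have multiple : ∀ {x}, Short e x → x ∈ plane u v → ∃ r : F, r ≠ 0 ∧ x = r • L := by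
    intro x hx hxm
    rw [hpl, hk5] at hxm
    obtain ⟨a, b, rfl⟩ := Submodule.mem_span_pair.mp hxm
    by_cases ha : a = 0
    · refine ⟨b * d⁻¹, fun hb => hx.Qne X ?_, by rw [ha, zero_smul, zero_add, smul_smul]⟩
      rw [ha, zero_smul, zero_add, smul_smul, hb, zero_smul, C.zero]
    · exfalso
      have hsh : IsShort e (a • k.val *ᵥ g 0 + b • d⁻¹ • L) := ⟨_, hx, 1, (one_smul F _).symm⟩
      rw [← hab] at hsh
      have t := fun i j l h1 h2 h3 => hsh.three X (a := i) (b := j) (c := l) h1 h2 h3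
      have h2 : (2 : F) ≠ 0 := X.two
      rcases hL with rfl | rfl
      · have t1 := t 2 3 0 (by decide) (by decide) (by decide)
        have t2 := t 2 3 1 (by decide) (by decide) (by decide)
        simp [hAdef, co_add, co_sub, co_smul, X.co_e, ha, hα, hβ] at t1 t2
        exact mul_ne_zero h2 (mul_ne_zero ha hα) (by linear_combination t1 - t2)
      · have t1 := t 0 1 2 (by decide) (by decide) (by decide)
        have t2 := t 0 1 3 (by decide) (by decide) (by decide)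
        simp [hA'def, co_add, co_sub, co_smul, X.co_e, ha, hα, hβ] at t1 t2
        exact mul_ne_zero h2 (mul_ne_zero ha hβ) (by linear_combination t1 - t2)
  obtain ⟨r, hr, hur⟩ := multiple hu (left_mem_plane u v)
  obtain ⟨r', hr', hvr⟩ := multiple hv (right_mem_plane u v)
  rcases hL with rfl | rfl
  · have h0 : (0 : Fin 6) ∈ supp B e ν u := by
      rw [mem_supp, hur, co_smul]; simp [hAdef, co_add, X.co_e, hr]
    exact Finset.disjoint_left.mp hd' h0
      (by rw [mem_supp, hvr, co_smul]; simp [hAdef, co_add, X.co_e, hr'])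
  · have h0 : (2 : Fin 6) ∈ supp B e ν u := by
      rw [mem_supp, hur, co_smul]; simp [hA'def, co_add, X.co_e, hr]
    exact Finset.disjoint_left.mp hd' h0
      (by rw [mem_supp, hvr, co_smul]; simp [hA'def, co_add, X.co_e, hr'])

/-- No two frame vectors go to the plane of two disjoint roots. -/
theorem Ctx.no_roots {k : GL ι F} (hk : k ∈ H) {a b : Fin 6} (hab : a ≠ b)
    (ha : k.val *ᵥ e a ∈ plane (e 0 - e 1) (e 2 - e 3))
    (hb : k.val *ᵥ e b ∈ plane (e 0 - e 1) (e 2 - e 3)) : False := by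
  classical
  have X := T.frame
  have C := X.space
  have hkI := T.le_iso hk
  obtain ⟨l, hlk⟩ : ∃ l, l = k⁻¹ := ⟨_, rfl⟩
  have hl : l ∈ H := hlk ▸ inv_mem hk
  have hI := T.le_iso hl
  have hlk' : ∀ x, l.val *ᵥ (k.val *ᵥ x) = x := fun x => by
    rw [hlk, ← mul_act, inv_mul_cancel, Units.val_one, Matrix.one_mulVec]
  have hns : l ∉ Stab e := fun h => by
    have hks : k ∈ Stab e := by simpa [hlk] using inv_mem h
    obtain ⟨α, β, he⟩ := Submodule.mem_span_pair.mp ha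
    by_cases hα : α = 0
    · by_cases hβ : β = 0
      · refine X.nu ?_
        rw [← X.norm a, ← mem_iso.mp hkI, ← he, hα, hβ]
        simp [C.zero]
      · have := X.stab_single hks (a := 2) (b := 3) (c := a) (by decide)
          (by rw [← he]; simp [co_add, co_sub, co_smul, X.co_e, hα, hβ])
        rw [← he] at this
        simp [co_add, co_sub, co_smul, X.co_e, hα, hβ] at this
    · have := X.stab_single hks (a := 0) (b := 1) (c := a) (by decide)
        (by rw [← he]; simp [co_add, co_sub, co_smul, X.co_e, hα])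
      rw [← he] at this
      simp [co_add, co_sub, co_smul, X.co_e, hα] at this
  -- the frame with `e a`, `e b` first
  obtain ⟨π, hπ⟩ := exists_perm (show 2 ≤ 6 by norm_num) ![a, b] (by
    intro i j h; fin_cases i <;> fin_cases j <;> simp_all [hab.symm])
  have hπ0 : π 0 = a := by simpa using hπ 0
  have hπ1 : π 1 = b := by simpa using hπ 1
  have hone : ∀ _i : Fin 6, (1 : F) ^ 2 = 1 := fun _ => one_pow 2
  have T1 := T.perm π hone
  set f : Fin 6 → ι → F := fun i => (1 : F) • e (π i) with hf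
  have Y := T1.frame
  have hf0 : f 0 = e a := by simp [hf, hπ0]
  have hf1 : f 1 = e b := by simp [hf, hπ1]
  have hcls : ∀ i, Cls Q e ν H (f i) := fun i => T.cls_signed (one_pow 2) (π i)
  have hSt : Stab f = Stab e := X.perm_stab π hone
  set u := e 0 - e 1 with hu
  set v := e 2 - e 3 with hv
  have hs1 : (-1 : F) ^ 2 = 1 := by norm_num
  have hQu : Q u = 2 * ν := by
    rw [hu, sub_eq_add_neg, ← neg_one_smul F (e 1)]
    exact X.Q_root (by decide) _ hs1
  have hQv : Q v = 2 * ν := by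
    rw [hv, sub_eq_add_neg, ← neg_one_smul F (e 3)]
    exact X.Q_root (by decide) _ hs1
  have hne : ∀ i, Q (k.val *ᵥ e i) ≠ 0 := fun i => by rw [mem_iso.mp hkI, X.norm]; exact X.nu
  have hpl := plane_eq C X.two (hQu ▸ X.two_nu) (hQv ▸ X.two_nu)
    (by rw [hu, hv]; simp [X.orth]) (hne a) (hne b) (by rw [C.B_act hkI, X.orth a b hab]) ha hb
  have himg : ∀ x ∈ plane u v, l.val *ᵥ x ∈ plane (f 0) (f 1) := fun x hx => by
    rw [← hpl] at hx
    obtain ⟨α, β, rfl⟩ := Submodule.mem_span_pair.mp hx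
    rw [Matrix.mulVec_add, Matrix.mulVec_smul, Matrix.mulVec_smul, hlk', hlk', hf0, hf1]
    exact Submodule.mem_span_pair.mpr ⟨α, β, rfl⟩
  -- the four orthogonal roots
  have sgn : ∀ {i j : Fin 6}, i ≠ j → Short e (e i + e j) ∧ Short e (e i - e j) := fun {i j} h =>
    ⟨Or.inr ⟨i, j, h, 1, one_pow 2, by rw [one_smul]⟩,
      Or.inr ⟨i, j, h, -1, hs1, by rw [neg_one_smul, sub_eq_add_neg]⟩⟩
  let L : Fin 4 → ι → F := ![e 0 + e 1, e 2 + e 3, e 4 + e 5, e 4 - e 5]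
  have hLs : ∀ i, Short e (L i) := fun i => by
    fin_cases i
    exacts [(sgn (by decide)).1, (sgn (by decide)).1, (sgn (by decide)).1, (sgn (by decide)).2]
  have hLQ : ∀ i, Q (L i) = 2 * ν := fun i => by
    fin_cases i <;> simp [L, sub_eq_add_neg, C.add, C.neg, X.norm, X.orth] <;> ring
  have hLo : ∀ i j, i ≠ j → B (L i) (L j) = 0 := fun i j h => by
    fin_cases i <;> fin_cases j <;> simp [L, X.orth, X.self] at h ⊢
  have hLu : ∀ i, B u (L i) = 0 ∧ B v (L i) = 0 := fun i => by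
    fin_cases i <;> simp [L, hu, hv, X.orth, X.self]
  have hLf : ∀ i, co B f ν 0 (l.val *ᵥ L i) = 0 ∧ co B f ν 1 (l.val *ᵥ L i) = 0 := by
    intro i
    have h : ∀ c, k.val *ᵥ e c ∈ plane u v → B (e c) (l.val *ᵥ L i) = 0 := fun c hc => by
      rw [← hlk' (e c), C.B_act hI]
      exact perp_plane (hLu i).1 (hLu i).2 hc
    exact ⟨Y.perp_coord (by rw [hf0]; exact h a ha), Y.perp_coord (by rw [hf1]; exact h b hb)⟩
  have hlQ : ∀ i, Q (l.val *ᵥ L i) = 2 * ν := fun i => by rw [mem_iso.mp hI, hLQ]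
  have conj : ∀ {x y}, Short e x → Short e y → Q x = Q y →
      rGL Q (l.val *ᵥ x) * rGL Q (l.val *ᵥ y) ∈ H := fun {x y} hx hy hxy => by
    rw [← rr_conj C (hx.Qne X) (hy.Qne X) hI]
    exact mul_mem (mul_mem hl (T.rr_short hx hy (c := 1) (by rw [hxy]; ring))) (inv_mem hl)
  have hshort : ∀ i, IsShort f (l.val *ᵥ L i) := by
    intro i
    obtain ⟨j, j', hji, hj'i, hjj⟩ : ∃ j j', j ≠ i ∧ j' ≠ i ∧ j ≠ j' := by
      fin_cases i
      exacts [⟨1, 2, by decide, by decide, by decide⟩, ⟨0, 2, by decide, by decide, by decide⟩,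
        ⟨0, 1, by decide, by decide, by decide⟩, ⟨0, 1, by decide, by decide, by decide⟩]
    refine T1.short_four hΩ p (y := l.val *ᵥ u) (v1 := l.val *ᵥ L j) (v2 := l.val *ᵥ L j')
      (by rw [mem_iso.mp hI, hQu]; exact X.two_nu)
      (fun c c0 c1 => Y.co_plane (himg u (left_mem_plane u v)) c0 c1)
      (hlQ i ▸ X.two_nu) (hlQ j ▸ X.two_nu) (hlQ j' ▸ X.two_nu) (hLf i).1 (hLf i).2 (hLf j).1
      (hLf j').1 (by rw [C.B_act hI, hLo i j hji.symm]) (by rw [C.B_act hI, hLo i j' hj'i.symm])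
      (by rw [C.B_act hI, hLo j j' hjj]) (conj (sgn (by decide)).2 (hLs i) ?_)
      (conj (hLs i) (hLs j) ?_) (conj (hLs i) (hLs j') ?_)
    · rw [hQu, hLQ]
    · rw [hLQ, hLQ]
    · rw [hLQ, hLQ]
  -- the image of `e 4`
  have hhalf : l.val *ᵥ e 4 = (2⁻¹ : F) • (l.val *ᵥ L 2 + l.val *ᵥ L 3) := by
    rw [← Matrix.mulVec_add, ← Matrix.mulVec_smul]
    congr 1
    have := X.two
    simp only [L, Matrix.cons_val]
    match_scalars <;> field_simp <;> ring
  have hsum : ¬ IsShort f (l.val *ᵥ L 2 + l.val *ᵥ L 3) := fun ⟨w, hw, r, hr⟩ => hns (by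
    rw [hr, smul_smul] at hhalf
    have hQ : Q (l.val *ᵥ e 4) = ν := by rw [mem_iso.mp hI, X.norm]
    have hcl : Cls Q f ν H (l.val *ᵥ e 4) := T1.cls_std hQ (by
      rw [hhalf] at hQ ⊢; exact Std.of_short Y hw hQ)
    have h4 : Cls Q f ν H (e 4) := by
      have := T1.cls_e (π.symm 4)
      simpa [hf] using this
    exact hSt ▸ T1.maps hΩ p hl h4 hcl)
  have hin : ∀ {i : Fin 6} {w : ι → F}, co B f ν 0 w = 0 → co B f ν 1 w = 0 → co B f ν i w ≠ 0 →
      i ≠ 0 ∧ i ≠ 1 := fun h0 h1 hi => ⟨fun h => hi (h ▸ h0), fun h => hi (h ▸ h1)⟩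
  have hne0 : ∀ {c : F}, c ^ 2 = 1 → c ≠ 0 := fun h h0 => by simp [h0] at h
  rcases Y.short_sum (hlQ 2) (hlQ 3) (by rw [C.B_act hI, hLo 2 3 (by decide)]) (hshort 2)
    (hshort 3) hsum with
    ⟨i, j, q, r, c1, c2, c3, c4, hnd, h1, h2, h3, h4, hw, hv'⟩ |
    ⟨i, j, q, c1, c2, c, hnd, h1, h2, hc, hor⟩
  · simp only [List.nodup_cons, List.mem_cons, List.not_mem_nil, or_false, not_or,
      List.nodup_nil, and_true, not_false_iff] at hnd
    obtain ⟨⟨hij, hiq, hir⟩, ⟨hjq, hjr⟩, hqr⟩ := hnd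
    obtain ⟨i0, i1⟩ := hin (i := i) (hLf 2).1 (hLf 2).2
      (by rw [hw, co_add, co_smul _ c1, co_smul _ c2, Y.co_e, Y.co_e]; simp [hij, hne0 h1])
    obtain ⟨j0, j1⟩ := hin (i := j) (hLf 2).1 (hLf 2).2
      (by rw [hw, co_add, co_smul _ c1, co_smul _ c2, Y.co_e, Y.co_e]; simp [Ne.symm hij, hne0 h2])
    obtain ⟨q0, q1⟩ := hin (i := q) (hLf 3).1 (hLf 3).2
      (by rw [hv', co_add, co_smul _ c3, co_smul _ c4, Y.co_e, Y.co_e]; simp [hqr, hne0 h3])
    obtain ⟨r0, r1⟩ := hin (i := r) (hLf 3).1 (hLf 3).2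
      (by rw [hv', co_add, co_smul _ c3, co_smul _ c4, Y.co_e, Y.co_e]; simp [Ne.symm hqr, hne0 h4])
    obtain ⟨π', hπ'⟩ := exists_perm (show 6 ≤ 6 by norm_num) ![0, 1, i, j, q, r]
      (six_inj hij hiq hir hjq hjr hqr ⟨i0, i1⟩ ⟨j0, j1⟩ ⟨q0, q1⟩ ⟨r0, r1⟩)
    simp only [Fin.castLE_refl] at hπ'
    let ε : Fin 6 → F := ![1, 1, c1, c2, c3, c4]
    have hε : ∀ x, ε x ^ 2 = 1 := fun x => by fin_cases x <;> simp [ε, h1, h2, h3, h4]
    have z : ∀ (x : Fin 6) (s : Fin 4), x = 0 ∨ x = 1 →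
        co B (fun i => ε i • f (π' i)) ν x (l.val *ᵥ L s) = 0 := by
      rintro x s (rfl | rfl) <;> rw [co_perm, hπ'] <;> simp [hLf]
    exact T.fuse_two hΩ p (T1.perm π' hε) hl
      (by simpa [L, ε, hπ'] using hw) (by simpa [L, ε, hπ'] using hv')
      ((hshort 0).perm π' hε) ((hshort 1).perm π' hε)
      (z 0 0 (Or.inl rfl)) (z 1 0 (Or.inr rfl)) (z 0 1 (Or.inl rfl)) (z 1 1 (Or.inr rfl))
  · simp only [List.nodup_cons, List.mem_cons, List.not_mem_nil, or_false, not_or,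
      List.nodup_nil, and_true, not_false_iff] at hnd
    obtain ⟨⟨hij, hiq⟩, hjq⟩ := hnd
    obtain ⟨s, t, hs, ht, hst2, hst⟩ : ∃ s t : Fin 4, l.val *ᵥ L s = c1 • f i + c2 • f j ∧
        l.val *ᵥ L t = c • f q ∧ (s = 2 ∧ t = 3 ∨ s = 3 ∧ t = 2) ∧
        l.val *ᵥ L 2 + l.val *ᵥ L 3 = c1 • f i + c2 • f j + c • f q := by
      rcases hor with ⟨hw, hv'⟩ | ⟨hv', hw⟩
      · exact ⟨2, 3, hw, hv', Or.inl ⟨rfl, rfl⟩, by rw [hw, hv']⟩
      · exact ⟨3, 2, hv', hw, Or.inr ⟨rfl, rfl⟩, by rw [hw, hv', add_comm]⟩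
    have hc0 : c ≠ 0 := fun h0 => by rw [h0] at hc; exact X.two (by linear_combination -hc)
    obtain ⟨i0, i1⟩ := hin (i := i) (hLf s).1 (hLf s).2
      (by rw [hs, co_add, co_smul _ c1, co_smul _ c2, Y.co_e, Y.co_e]; simp [hij, hne0 h1])
    obtain ⟨j0, j1⟩ := hin (i := j) (hLf s).1 (hLf s).2
      (by rw [hs, co_add, co_smul _ c1, co_smul _ c2, Y.co_e, Y.co_e]; simp [Ne.symm hij, hne0 h2])
    obtain ⟨q0, q1⟩ := hin (i := q) (hLf t).1 (hLf t).2
      (by rw [ht, co_smul, Y.co_e]; simp [hc0])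
    obtain ⟨π', hπ'⟩ := exists_perm (show 5 ≤ 6 by norm_num) ![0, 1, i, j, q]
      (five_inj hij hiq hjq ⟨i0, i1⟩ ⟨j0, j1⟩ ⟨q0, q1⟩)
    have p0 : π' 0 = 0 := by simpa using hπ' 0
    have p1 : π' 1 = 1 := by simpa using hπ' 1
    have p2 : π' 2 = i := by simpa using hπ' 2
    have p3 : π' 3 = j := by simpa using hπ' 3
    have p4 : π' 4 = q := by simpa using hπ' 4
    let ε : Fin 6 → F := ![1, 1, c1, c2, 1, 1]
    have hε : ∀ x, ε x ^ 2 = 1 := fun x => by fin_cases x <;> simp [ε, h1, h2]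
    have T2 := T1.perm π' hε
    have Z := T2.frame
    set g' : Fin 6 → ι → F := fun i => ε i • f (π' i) with hg'
    have es : l.val *ᵥ L s = g' 2 + g' 3 := by rw [hs]; simp [hg', ε, p2, p3]
    have et : l.val *ᵥ L t = c • g' 4 := by rw [ht]; simp [hg', ε, p4]
    have hz : ∀ r : Fin 4, r ≠ s → r ≠ t →
        (∀ x : Fin 6, x = 0 ∨ x = 1 ∨ x = 4 → co B g' ν x (l.val *ᵥ L r) = 0) ∧
          co B g' ν 3 (l.val *ᵥ L r) = -co B g' ν 2 (l.val *ᵥ L r) := by
      intro r hrs hrt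
      have b1 : B (l.val *ᵥ L s) (l.val *ᵥ L r) = 0 := by
        rw [C.B_act hI, hLo s r hrs.symm]
      have b2 : B (l.val *ᵥ L t) (l.val *ᵥ L r) = 0 := by
        rw [C.B_act hI, hLo t r hrt.symm]
      rw [es, map_add, LinearMap.add_apply, Z.B_e, Z.B_e, ← mul_add] at b1
      rw [et, map_smul, LinearMap.smul_apply, Z.B_e, smul_eq_mul] at b2
      refine ⟨?_, by linear_combination (mul_eq_zero.mp b1).resolve_left Z.two_nu⟩
      rintro x (rfl | rfl | rfl)
      · simp [hg', co_perm, p0, hLf]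
      · simp [hg', co_perm, p1, hLf]
      · exact (mul_eq_zero.mp ((mul_eq_zero.mp b2).resolve_left hc0)).resolve_left Z.two_nu
    have n0 : ∀ r : Fin 4, r = 0 ∨ r = 1 → r ≠ s ∧ r ≠ t := by
      rintro r (rfl | rfl) <;> rcases hst2 with ⟨rfl, rfl⟩ | ⟨rfl, rfl⟩ <;> decide
    obtain ⟨zA, sA⟩ := hz 0 (n0 0 (Or.inl rfl)).1 (n0 0 (Or.inl rfl)).2
    obtain ⟨zC, sC⟩ := hz 1 (n0 1 (Or.inr rfl)).1 (n0 1 (Or.inr rfl)).2
    have hg0 : g' 0 = e a := by simp [hg', ε, p0, hf0]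
    refine T.fuse_one hΩ p T2 (fun x => ?_) hl hns (c := c) ?_ ?_ ((hshort 0).perm π' hε)
      ((hshort 1).perm π' hε) zA zC sA sC
    · simp only [hg', hf, smul_smul]
      exact T.cls_signed (by rw [mul_pow, hε]; ring) _
    · rw [hhalf, hst]
      simp [hg', ε, p2, p3, p4]
    · rw [hg0, hlk, inv_inv]
      exact ha

/-- An element conjugating two frame reflections into the stabiliser stabilises the frame. -/
theorem Ctx.pair_fix {k : GL ι F} (hk : k ∈ H) {a b : Fin 6} (hab : a ≠ b)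
    (h : k * (rGL Q (e a) * rGL Q (e b)) * k⁻¹ ∈ Stab e) : k ∈ Stab e := by
  classical
  have X := T.frame
  have C := X.space
  have hI := T.le_iso hk
  have hne : ∀ i, Q (k.val *ᵥ e i) ≠ 0 := fun i => by rw [mem_iso.mp hI, X.norm]; exact X.nu
  have hB : ∀ i j, i ≠ j → B (k.val *ᵥ e i) (k.val *ᵥ e j) = 0 := fun i j h => by
    rw [C.B_act hI, X.orth i j h]
  rw [rr_conj C (X.Qne a) (X.Qne b) hI] at h
  obtain ⟨u, v, hu, hv, hd, -, hpl⟩ := X.short_two (hne a) (hne b) (hB a b hab) h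
  obtain ⟨π, ε, hε, hcase⟩ := normal_pair X hu hv hd
  rw [hpl] at hcase
  have T' := T.perm π hε
  set f : Fin 6 → ι → F := fun i => ε i • e (π i) with hf
  have hSt : Stab f = Stab e := X.perm_stab π hε
  rw [← hSt]
  have hfc : ∀ c, f (π.symm c) = ε (π.symm c) • e c := fun c => by simp [hf]
  have hmem : ∀ c, (c = a ∨ c = b) →
      k.val *ᵥ f (π.symm c) ∈ plane (k.val *ᵥ e a) (k.val *ᵥ e b) := by
    intro c hc
    rw [hfc, Matrix.mulVec_smul]
    refine Submodule.smul_mem _ _ ?_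
    rcases hc with rfl | rfl
    exacts [left_mem_plane _ _, right_mem_plane _ _]
  have hab' : π.symm a ≠ π.symm b := fun h => hab (π.symm.injective h)
  rcases hcase with hc | hc | hc
  · exact T'.fix_cc hΩ p hk hab' (hc ▸ hmem a (Or.inl rfl)) (hc ▸ hmem b (Or.inr rfl))
  · obtain ⟨x, hx⟩ := exists_outside (S := ({π.symm a, π.symm b} : Finset (Fin 6)))
      (by have := Finset.card_le_two (a := π.symm a) (b := π.symm b); omega)
    obtain ⟨y, hy⟩ := exists_outside (S := ({π.symm a, π.symm b, x} : Finset (Fin 6)))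
      (by have := Finset.card_le_three (a := π.symm a) (b := π.symm b) (c := x); omega)
    obtain ⟨z, hz⟩ := exists_outside (S := ({π.symm a, π.symm b, x, y} : Finset (Fin 6)))
      (by have := Finset.card_le_four (a := π.symm a) (b := π.symm b) (c := x) (d := y); omega)
    simp only [Finset.mem_insert, Finset.mem_singleton, not_or] at hx hy hz
    refine T'.fix_rc hΩ p hk (Ne.symm hy.2.2) (Ne.symm hz.2.2.1) (Ne.symm hz.2.2.2)
      (fun i hi => ?_)
    have hia : i ≠ π.symm a ∧ i ≠ π.symm b := by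
      rcases hi with rfl | rfl | rfl
      exacts [hx, ⟨hy.1, hy.2.1⟩, ⟨hz.1, hz.2.1⟩]
    have hp : ∀ w ∈ plane (f 0 - f 1) (f 2), B w (k.val *ᵥ f i) = 0 := by
      intro w hw
      rw [← hc] at hw
      refine perp_plane ?_ ?_ hw <;>
        rw [hf, Matrix.mulVec_smul, map_smul, hB _ _ (fun h => ?_), smul_zero]
      exacts [hia.1 (π.injective (by rw [Equiv.apply_symm_apply, h])),
        hia.2 (π.injective (by rw [Equiv.apply_symm_apply, h]))]
    have h01 := hp _ (left_mem_plane _ _)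
    rw [map_sub, LinearMap.sub_apply, T'.frame.B_e, T'.frame.B_e, sub_eq_zero] at h01
    exact ⟨mul_left_cancel₀ X.two_nu h01, T'.frame.perp_coord (hp _ (right_mem_plane _ _))⟩
  · exact (T'.no_roots hΩ p hk hab' (hc ▸ hmem a (Or.inl rfl)) (hc ▸ hmem b (Or.inr rfl))).elim

end Ctx

end Cfsg.Lib.Linear.FrameSmall
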