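import Cfsg.Agent.Lib.Linear.FrameSmall.Six.Short

/-!
# Normal forms of short planes, and a vector in two short planes
-/

set_option autoImplicit false

namespace Cfsg.Lib.Linear.FrameSmall

open Module Cfsg.Lib.Linear.Orth
open scoped Matrix

variable {ι : Type} [Fintype ι] [DecidableEq ι] {F : Type*} [Field F]
  {Q : (ι → F) → F} {B : LinearMap.BilinForm F (ι → F)}
  {n : ℕ} {e : Fin n → (ι → F)} {ν : F}

theorem exists_perm {k : ℕ} (hk : k ≤ n) (f : Fin k → Fin n) (hf : Function.Injective f) :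
    ∃ π : Equiv.Perm (Fin n), ∀ i, π (Fin.castLE hk i) = f i := by
  classical
  let a : {x : Fin n // x ∈ Set.range (Fin.castLE hk)} ≃ {x : Fin n // x ∈ Set.range f} :=
    (Equiv.ofInjective _ (Fin.castLE_injective hk)).symm.trans (Equiv.ofInjective f hf)
  refine ⟨a.extendSubtype, fun i => ?_⟩
  rw [Equiv.extendSubtype_apply_of_mem a _ ⟨i, rfl⟩]
  simp [a]

omit [Fintype ι] [DecidableEq ι] in
theorem plane_comm (p q : ι → F) : plane p q = plane q p := by rw [plane, plane, Set.pair_comm]

/-- The three planes, in a suitable frame. -/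
theorem normal_pair {e : Fin 6 → (ι → F)} (X : Frame Q B e ν) {u v : ι → F} (hu : Short e u)
    (hv : Short e v) (hd : Disjoint (supp B e ν u) (supp B e ν v)) :
    ∃ (π : Equiv.Perm (Fin 6)) (ε : Fin 6 → F), (∀ i, ε i ^ 2 = 1) ∧
      (plane u v = plane (ε 0 • e (π 0)) (ε 1 • e (π 1)) ∨
        plane u v = plane (ε 0 • e (π 0) - ε 1 • e (π 1)) (ε 2 • e (π 2)) ∨
        plane u v = plane (ε 0 • e (π 0) - ε 1 • e (π 1)) (ε 2 • e (π 2) - ε 3 • e (π 3))) := by
  classical
  have ne_of : ∀ {i j : Fin 6}, co B e ν i u ≠ 0 → co B e ν j v ≠ 0 → i ≠ j := fun hi hj h =>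
    Finset.disjoint_left.mp hd (mem_supp.mpr hi) (mem_supp.mpr (h ▸ hj))
  have root_co : ∀ {i j : Fin 6} {σ : F}, i ≠ j → σ ^ 2 = 1 →
      co B e ν i (e i + σ • e j) ≠ 0 ∧ co B e ν j (e i + σ • e j) ≠ 0 := fun {i j σ} h hσ => by
    have : σ ≠ 0 := fun h0 => by rw [h0] at hσ; simp at hσ
    simp [co_add, co_smul, X.co_e, h, h.symm, this]
  have coord_co : ∀ i : Fin 6, co B e ν i (e i) ≠ 0 := fun i => by simp [X.co_e]
  rcases hu with ⟨i, rfl⟩ | ⟨i, j, hij, σ, hσ, rfl⟩ <;>
    rcases hv with ⟨k, rfl⟩ | ⟨k, l, hkl, τ, hτ, rfl⟩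
  · have hik := ne_of (coord_co i) (coord_co k)
    obtain ⟨π, hπ⟩ := exists_perm (show 2 ≤ 6 by norm_num) ![i, k] (by
      intro a b h; fin_cases a <;> fin_cases b <;> simp_all [hik.symm])
    refine ⟨π, fun _ => 1, fun _ => one_pow 2, Or.inl ?_⟩
    have h0 := hπ 0; have h1 := hπ 1
    simp at h0 h1
    simp [h0, h1]
  · obtain ⟨hk, hl⟩ := root_co hkl hτ
    have hik := ne_of (coord_co i) hk
    have hil := ne_of (coord_co i) hl
    obtain ⟨π, hπ⟩ := exists_perm (show 3 ≤ 6 by norm_num) ![k, l, i] (by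
      intro a b h; fin_cases a <;> fin_cases b <;>
        simp_all [hik.symm, hil.symm, hkl.symm])
    refine ⟨π, fun q => if q = 1 then -τ else 1, fun q => by simp only; split_ifs <;> simp [hτ],
      Or.inr (Or.inl ?_)⟩
    have h0 := hπ 0; have h1 := hπ 1; have h2 := hπ 2
    simp at h0 h1 h2
    simp [h0, h1, h2, plane_comm (e i)]
  · obtain ⟨hi, hj⟩ := root_co hij hσ
    have hik := ne_of hi (coord_co k)
    have hjk := ne_of hj (coord_co k)
    obtain ⟨π, hπ⟩ := exists_perm (show 3 ≤ 6 by norm_num) ![i, j, k] (by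
      intro a b h; fin_cases a <;> fin_cases b <;>
        simp_all [hik.symm, hjk.symm, hij.symm])
    refine ⟨π, fun q => if q = 1 then -σ else 1, fun q => by simp only; split_ifs <;> simp [hσ],
      Or.inr (Or.inl ?_)⟩
    have h0 := hπ 0; have h1 := hπ 1; have h2 := hπ 2
    simp at h0 h1 h2
    simp [h0, h1, h2]
  · obtain ⟨hi, hj⟩ := root_co hij hσ
    obtain ⟨hk, hl⟩ := root_co hkl hτ
    have hik := ne_of hi hk
    have hil := ne_of hi hl
    have hjk := ne_of hj hk
    have hjl := ne_of hj hl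
    obtain ⟨π, hπ⟩ := exists_perm (show 4 ≤ 6 by norm_num) ![i, j, k, l] (by
      intro a b h; fin_cases a <;> fin_cases b <;>
        simp_all [hik.symm, hjk.symm, hij.symm, hil.symm, hjl.symm, hkl.symm])
    refine ⟨π, fun q => if q = 1 then -σ else if q = 3 then -τ else 1,
      fun q => by simp only; split_ifs <;> simp [hσ, hτ], Or.inr (Or.inr ?_)⟩
    have h0 := hπ 0; have h1 := hπ 1; have h2 := hπ 2; have h3 := hπ 3
    simp at h0 h1 h2 h3
    simp [h0, h1, h2, h3]

/-- The restriction of a vector to a set of indices. -/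
noncomputable def part (B : LinearMap.BilinForm F (ι → F)) (e : Fin n → (ι → F)) (ν : F)
    (A : Finset (Fin n)) (w : ι → F) : ι → F := ∑ i ∈ A, co B e ν i w • e i

/-- The sum of the squares over a set of indices. -/
noncomputable def wt (B : LinearMap.BilinForm F (ι → F)) (e : Fin n → (ι → F)) (ν : F)
    (A : Finset (Fin n)) (w : ι → F) : F := ∑ i ∈ A, co B e ν i w ^ 2

/-- A vector is a multiple of a short one. -/
def IsShort (e : Fin n → (ι → F)) (w : ι → F) : Prop := ∃ u, Short e u ∧ ∃ c : F, w = c • u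

/-- A block of a vector of a short plane. -/
structure Block (B : LinearMap.BilinForm F (ι → F)) (e : Fin n → (ι → F)) (ν : F) (w v : ι → F)
    (A : Finset (Fin n)) : Prop where
  sub : A ⊆ supp B e ν w
  lt : A.Nonempty ∧ A ≠ supp B e ν w
  small : A.card ≤ 2 ∧ (supp B e ν w \ A).card ≤ 2
  eq : ∀ i ∈ supp B e ν w, ∀ j ∈ supp B e ν w, (i ∈ A ↔ j ∈ A) →
    co B e ν i w ^ 2 = co B e ν j w ^ 2
  mem : part B e ν A w ∈ plane w v
  comb : ∃ γ δ : F, v = γ • part B e ν A w + δ • part B e ν (supp B e ν w \ A) w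

section Frame

variable (X : Frame Q B e ν)

include X

theorem Frame.co_part (A : Finset (Fin n)) (w : ι → F) (l : Fin n) :
    co B e ν l (part B e ν A w) = if l ∈ A then co B e ν l w else 0 := by
  simp [part, co_sum, co_smul, X.co_e]

theorem Frame.B_part (A : Finset (Fin n)) (w : ι → F) (y : ι → F) :
    B (part B e ν A w) y = 2 * ν * ∑ i ∈ A, co B e ν i w * co B e ν i y := by
  simp [part, X.B_e, Finset.mul_sum, map_sum, LinearMap.sum_apply]
  exact Finset.sum_congr rfl fun i _ => by ring

theorem Short.sq_eq {u : ι → F} (hu : Short e u) :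
    (supp B e ν u).card ≤ 2 ∧ ∀ i ∈ supp B e ν u, co B e ν i u ^ 2 = 1 := by
  classical
  rcases hu with ⟨i, rfl⟩ | ⟨i, j, hij, σ, hσ, rfl⟩
  · refine ⟨(Finset.card_le_card (t := {i}) fun l hl => ?_).trans (by simp), fun l hl => ?_⟩
    · rw [mem_supp, X.co_e] at hl
      simpa using hl
    · rw [mem_supp, X.co_e] at hl
      split_ifs at hl with h
      · rw [X.co_e, if_pos h]; ring
      · exact absurd rfl hl
  · refine ⟨(Finset.card_le_card (t := {i, j}) fun l hl => ?_).trans Finset.card_le_two,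
      fun l hl => ?_⟩
    · rw [mem_supp, co_add, co_smul, X.co_e, X.co_e] at hl
      by_contra h
      simp only [Finset.mem_insert, Finset.mem_singleton, not_or] at h
      simp [h.1, h.2] at hl
    · rw [mem_supp, co_add, co_smul, X.co_e, X.co_e] at hl
      rw [co_add, co_smul, X.co_e, X.co_e]
      by_cases h1 : l = i
      · subst h1; simp [hij]
      by_cases h2 : l = j
      · subst h2; simp [h1, hσ]
      simp [h1, h2] at hl

theorem Frame.block {w v : ι → F} (hs : SPl B e ν w v) (hw : ¬ IsShort e w) :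
    ∃ A, Block B e ν w v A := by
  classical
  obtain ⟨u, u', hu, hu', hd, -, hpl⟩ := hs
  obtain ⟨α, β, hwe⟩ := Submodule.mem_span_pair.mp (hpl ▸ left_mem_plane w v)
  obtain ⟨γ, δ, hve⟩ := Submodule.mem_span_pair.mp (hpl ▸ right_mem_plane w v)
  have hα : α ≠ 0 := fun h => hw ⟨u', hu', β, by rw [← hwe, h, zero_smul, zero_add]⟩
  have hβ : β ≠ 0 := fun h => hw ⟨u, hu, α, by rw [← hwe, h, zero_smul, add_zero]⟩
  have hcu : ∀ l, l ∈ supp B e ν u → co B e ν l u' = 0 := fun l hl =>
    not_mem_supp.mp (Finset.disjoint_left.mp hd hl)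
  have hco : ∀ l, co B e ν l w = α * co B e ν l u + β * co B e ν l u' := fun l => by
    rw [← hwe, co_add, co_smul, co_smul]
  have hS : supp B e ν w = supp B e ν u ∪ supp B e ν u' := by
    ext l
    rw [Finset.mem_union, mem_supp, hco]
    by_cases h1 : l ∈ supp B e ν u
    · simp [h1, hcu l h1, hα, mem_supp.mp h1]
    · simp [h1, not_mem_supp.mp h1, hβ, mem_supp]
  have hsd : supp B e ν w \ supp B e ν u = supp B e ν u' := by
    rw [hS, Finset.union_sdiff_left, Finset.sdiff_eq_self_iff_disjoint]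
    exact hd.symm
  have hres : part B e ν (supp B e ν u) w = α • u ∧ part B e ν (supp B e ν u') w = β • u' := by
    constructor <;> refine X.ext fun l => ?_
    · rw [X.co_part, co_smul]
      split_ifs with h1
      · rw [hco, hcu l h1]; ring
      · rw [not_mem_supp.mp h1, mul_zero]
    · rw [X.co_part, co_smul]
      split_ifs with h1
      · rw [hco, not_mem_supp.mp (Finset.disjoint_right.mp hd h1)]; ring
      · rw [not_mem_supp.mp h1, mul_zero]
  obtain ⟨hc, he⟩ := hu.sq_eq X
  obtain ⟨hc', he'⟩ := hu'.sq_eq X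
  have hne : ∀ {x : ι → F}, Short e x → (supp B e ν x).Nonempty := fun {x} hx => by
    by_contra h
    rw [Finset.not_nonempty_iff_eq_empty] at h
    exact hx.Qne X (by
      rw [X.eq_zero (x := x) fun i => not_mem_supp.mp (by rw [h]; exact Finset.notMem_empty i),
        X.space.zero])
  refine ⟨supp B e ν u, ⟨hS ▸ Finset.subset_union_left, ⟨hne hu, fun h => ?_⟩, ⟨hc, hsd ▸ hc'⟩,
    fun i hi j hj hij => ?_, ?_, γ / α, δ / β, ?_⟩⟩
  · obtain ⟨l, hl⟩ := hne hu'
    rw [← hsd, Finset.mem_sdiff] at hl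
    exact hl.2 (h ▸ hl.1)
  · rw [hco, hco]
    by_cases h1 : i ∈ supp B e ν u
    · rw [hcu i h1, hcu j (hij.mp h1)]
      linear_combination (α ^ 2) * he i h1 - (α ^ 2) * he j (hij.mp h1)
    · rw [not_mem_supp.mp h1, not_mem_supp.mp (fun h => h1 (hij.mpr h))]
      rw [hS, Finset.mem_union] at hi hj
      linear_combination (β ^ 2) * he' i (hi.resolve_left h1) -
        (β ^ 2) * he' j (hj.resolve_left fun h => h1 (hij.mpr h))
  · rw [hres.1, ← hpl]
    exact Submodule.smul_mem _ _ (left_mem_plane u u')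
  · rw [hsd, hres.1, hres.2, ← hve]
    match_scalars <;> field_simp

/-- A vector in two short planes is short or has four equal squares. -/
theorem Frame.two_planes {w v1 v2 : ι → F} (hQw : Q w ≠ 0) (h1 : Q v1 ≠ 0) (h2 : Q v2 ≠ 0)
    (hw1 : B w v1 = 0) (hw2 : B w v2 = 0) (h12 : B v1 v2 = 0)
    (s1 : SPl B e ν w v1) (s2 : SPl B e ν w v2) :
    IsShort e w ∨ ((supp B e ν w).card = 4 ∧
      (∀ i ∈ supp B e ν w, ∀ j ∈ supp B e ν w, co B e ν i w ^ 2 = co B e ν j w ^ 2) ∧
      ∀ i ∈ supp B e ν w, ∀ j ∈ supp B e ν w, i ≠ j → ∃ t, (t ∈ plane w v1 ∨ t ∈ plane w v2) ∧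
        co B e ν i t ≠ 0 ∧ co B e ν j t = 0) := by
  classical
  by_cases hsh : IsShort e w
  · exact Or.inl hsh
  obtain ⟨A1, b1⟩ := X.block s1 hsh
  obtain ⟨A2, b2⟩ := X.block s2 hsh
  set S := supp B e ν w with hS
  have hQw' : wt B e ν S w ≠ 0 := fun h => hQw (by
    rw [X.Q_co, ← X.sum_supp, ← hS]
    rw [wt] at h
    rw [h, mul_zero])
  have hBr : ∀ A A', B (part B e ν A w) (part B e ν A' w) = 2 * ν * wt B e ν (A ∩ A') w := by
    intro A A'
    rw [X.B_part, wt, ← Finset.sum_ite_mem]
    congr 1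
    refine Finset.sum_congr rfl fun i _ => ?_
    rw [X.co_part]
    split_ifs <;> ring
  have hwS : part B e ν S w = w := X.ext fun l => by
    rw [X.co_part]
    split_ifs with h
    · rfl
    · exact (not_mem_supp.mp h).symm
  have comp : ∀ {A : Finset (Fin n)}, A ⊆ S → S \ (S \ A) = A := fun h =>
    Finset.sdiff_sdiff_eq_self h
  have hBw : ∀ {A : Finset (Fin n)}, A ⊆ S → B w (part B e ν A w) = 2 * ν * wt B e ν A w :=
    fun {A} hA => by
      have h := hBr S A
      rwa [hwS, Finset.inter_eq_right.mpr hA] at h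
  have hperp : ∀ {v : ι → F} {A : Finset (Fin n)} {γ δ : F}, A ⊆ S → B w v = 0 →
      v = γ • part B e ν A w + δ • part B e ν (S \ A) w →
      γ * wt B e ν A w + δ * wt B e ν (S \ A) w = 0 := by
    intro v A γ δ hA hv he
    rw [he, map_add, map_smul, map_smul, hBw hA, hBw Finset.sdiff_subset, smul_eq_mul,
      smul_eq_mul] at hv
    exact mul_left_cancel₀ X.two_nu (by linear_combination hv)
  obtain ⟨γ1, δ1, hv1⟩ := b1.comb
  obtain ⟨γ2, δ2, hv2⟩ := b2.comb
  have p1 := hperp b1.sub hw1 hv1
  have p2 := hperp b2.sub hw2 hv2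
  -- the blocks differ
  have same : ∀ {γ δ γ' δ' : F}, v1 = γ • part B e ν A1 w + δ • part B e ν (S \ A1) w →
      v2 = γ' • part B e ν A1 w + δ' • part B e ν (S \ A1) w → False := by
    intro γ δ γ' δ' e1 e2
    have q1 := hperp b1.sub hw1 e1
    have q2 := hperp b1.sub hw2 e2
    set a := wt B e ν A1 w
    set b := wt B e ν (S \ A1) w
    have hab : a + b ≠ 0 := by
      simp only [a, b, wt]
      rwa [add_comm, Finset.sum_sdiff b1.sub]
    have hB : ∀ γ δ γ' δ' : F,
        B (γ • part B e ν A1 w + δ • part B e ν (S \ A1) w)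
          (γ' • part B e ν A1 w + δ' • part B e ν (S \ A1) w) =
          2 * ν * (γ * γ' * a + δ * δ' * b) := by
      intro γ δ γ' δ'
      simp only [map_add, map_smul, LinearMap.add_apply, LinearMap.smul_apply, smul_eq_mul, hBr,
        Finset.inter_self, Finset.inter_sdiff_self, Finset.sdiff_inter_self, a, b]
      rw [show wt B e ν ∅ w = 0 by simp [wt]]
      ring
    have r1 := hB γ δ γ' δ'
    rw [← e1, ← e2, h12] at r1
    have r1' : γ * γ' * a + δ * δ' * b = 0 := (mul_eq_zero.mp r1.symm).resolve_left X.two_nu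
    have hQ : ∀ {v : ι → F} {γ δ : F}, Q v ≠ 0 →
        v = γ • part B e ν A1 w + δ • part B e ν (S \ A1) w → γ ^ 2 * a + δ ^ 2 * b ≠ 0 := by
      intro v γ δ hv he h0
      refine hv (mul_left_cancel₀ X.two ?_)
      rw [← X.space.self, he, hB]
      linear_combination (2 * ν) * h0
    have t1 := hQ h1 e1
    have t2 := hQ h2 e2
    -- `γ a = -δ b` twice forces `v1` and `v2` to be proportional
    by_cases hb : b = 0
    · have ha : a ≠ 0 := by intro ha; exact hab (by rw [ha, hb, add_zero])
      have : γ = 0 := (mul_eq_zero.mp (by linear_combination q1 - δ * hb)).resolve_right ha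
      exact t1 (by rw [this, hb]; ring)
    have hδ : δ = -(γ * a) / b := by field_simp; linear_combination q1
    have hδ' : δ' = -(γ' * a) / b := by field_simp; linear_combination q2
    have hg : γ ≠ 0 := fun h => t1 (by rw [hδ, h]; ring)
    have hg' : γ' ≠ 0 := fun h => t2 (by rw [hδ', h]; ring)
    have ha : a ≠ 0 := fun h => t1 (by rw [hδ, h]; ring)
    rw [hδ, hδ'] at r1'
    field_simp at r1'
    exact mul_ne_zero (mul_ne_zero (mul_ne_zero hg hg') ha) hab (by linear_combination r1')
  have hne : A2 ≠ A1 ∧ A2 ≠ S \ A1 := ⟨fun h => same hv1 (h ▸ hv2), fun h => by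
    refine same hv1 (γ' := δ2) (δ' := γ2) ?_
    rw [hv2, h, ← hS, comp b1.sub, add_comm]⟩
  have hcard : ∀ {A : Finset (Fin n)}, A ⊆ S → S.card = A.card + (S \ A).card := fun {A} hA => by
    rw [Finset.card_sdiff_of_subset hA]
    have := Finset.card_le_card hA
    omega
  have hpos : ∀ {A : Finset (Fin n)}, A ⊆ S → A ≠ S → 0 < (S \ A).card := fun {A} hA hne' =>
    Finset.card_pos.mpr (Finset.sdiff_nonempty.mpr fun h => hne' (Finset.Subset.antisymm hA h))
  have c1 := hcard b1.sub
  have c2 := hcard b2.sub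
  have n1 := Finset.card_pos.mpr b1.lt.1
  have n2 := Finset.card_pos.mpr b2.lt.1
  have n1' := hpos b1.sub b1.lt.2
  have n2' := hpos b2.sub b2.lt.2
  have m1 : A1.card ≤ 2 ∧ (S \ A1).card ≤ 2 := b1.small
  have m2 : A2.card ≤ 2 ∧ (S \ A2).card ≤ 2 := b2.small
  have hS4 : S.card = 4 := by
    rcases (show S.card = 2 ∨ S.card = 3 ∨ S.card = 4 by omega) with h | h | h
    · exfalso
      obtain ⟨x, hx⟩ := Finset.card_eq_one.mp (show A1.card = 1 by omega)
      obtain ⟨y, hy⟩ := Finset.card_eq_one.mp (show (S \ A1).card = 1 by omega)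
      obtain ⟨z, hz⟩ := Finset.card_eq_one.mp (show A2.card = 1 by omega)
      have hzS : z ∈ A1 ∪ (S \ A1) := by
        rw [Finset.union_sdiff_of_subset b1.sub]; exact b2.sub (hz ▸ Finset.mem_singleton_self z)
      rw [hy, hx, Finset.mem_union, Finset.mem_singleton, Finset.mem_singleton] at hzS
      rcases hzS with rfl | rfl
      exacts [hne.1 (hz.trans hx.symm), hne.2 (hz.trans hy.symm)]
    · exfalso
      -- normalise both blocks to singletons
      obtain ⟨z1, γ1', δ1', hv1', he1⟩ : ∃ (z : Fin n) (γ δ : F),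
          v1 = γ • part B e ν {z} w + δ • part B e ν (S \ {z}) w ∧
            (A1 = {z} ∨ S \ A1 = {z}) := by
        by_cases hc : A1.card = 1
        · obtain ⟨z, hz⟩ := Finset.card_eq_one.mp hc
          exact ⟨z, γ1, δ1, hz ▸ hv1, Or.inl hz⟩
        · obtain ⟨z, hz⟩ := Finset.card_eq_one.mp (show (S \ A1).card = 1 by omega)
          refine ⟨z, δ1, γ1, ?_, Or.inr hz⟩
          rw [hv1, ← hz, comp b1.sub, add_comm]
      obtain ⟨z2, γ2', δ2', hv2', he2⟩ : ∃ (z : Fin n) (γ δ : F),
          v2 = γ • part B e ν {z} w + δ • part B e ν (S \ {z}) w ∧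
            (A2 = {z} ∨ S \ A2 = {z}) := by
        by_cases hc : A2.card = 1
        · obtain ⟨z, hz⟩ := Finset.card_eq_one.mp hc
          exact ⟨z, γ2, δ2, hz ▸ hv2, Or.inl hz⟩
        · obtain ⟨z, hz⟩ := Finset.card_eq_one.mp (show (S \ A2).card = 1 by omega)
          refine ⟨z, δ2, γ2, ?_, Or.inr hz⟩
          rw [hv2, ← hz, comp b2.sub, add_comm]
      have hmem : ∀ {A : Finset (Fin n)} {z}, A ⊆ S → (A = {z} ∨ S \ A = {z}) → z ∈ S ∧
          ∀ i, i ∈ S → i ≠ z → ∀ j, j ∈ S → j ≠ z → (i ∈ A ↔ j ∈ A) := by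
        intro A z hA he
        rcases he with he | he
        · subst he
          exact ⟨hA (Finset.mem_singleton_self z), fun i _ hi j _ hj => by simp [hi, hj]⟩
        · have hz := (he ▸ Finset.mem_singleton_self z : z ∈ S \ A)
          refine ⟨(Finset.mem_sdiff.mp hz).1, fun i hi hiz j hj hjz => ?_⟩
          have hin : ∀ i, i ∈ S → i ≠ z → i ∈ A := fun i hi hiz => by
            by_contra hiA
            exact hiz (Finset.mem_singleton.mp (he ▸ Finset.mem_sdiff.mpr ⟨hi, hiA⟩))
          exact iff_of_true (hin i hi hiz) (hin j hj hjz)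
      obtain ⟨hz1, q1⟩ := hmem b1.sub he1
      obtain ⟨hz2, q2⟩ := hmem b2.sub he2
      have hz12 : z1 ≠ z2 := fun hz => by
        subst hz
        rcases he1 with g1 | g1 <;> rcases he2 with g2 | g2
        · exact hne.1 (g2.trans g1.symm)
        · exact hne.2 (by
            rw [g1, ← g2, comp b2.sub])
        · exact hne.2 (g2.trans g1.symm)
        · exact hne.1 (by
            have := congrArg (S \ ·) (g2.trans g1.symm)
            simpa [comp b1.sub, comp b2.sub] using this)
      obtain ⟨x, hx⟩ := Finset.card_eq_one.mp (show ((S.erase z1).erase z2).card = 1 by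
        have := Finset.card_erase_add_one hz1
        have := Finset.card_erase_add_one (Finset.mem_erase.mpr ⟨hz12.symm, hz2⟩)
        omega)
      have hxm : x ∈ (S.erase z1).erase z2 := by rw [hx]; simp
      simp only [Finset.mem_erase] at hxm
      obtain ⟨hx2, hx1, hxS⟩ := hxm
      have e1 := b1.eq z2 hz2 x hxS (q1 z2 hz2 hz12.symm x hxS hx1)
      have e2 := b2.eq z1 hz1 x hxS (q2 z1 hz1 hz12 x hxS hx2)
      have hS1 : S \ {z1} = {z2, x} := by
        ext i
        simp only [Finset.mem_sdiff, Finset.mem_singleton, Finset.mem_insert]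
        refine ⟨fun ⟨hi, hi1⟩ => ?_, fun hi => ?_⟩
        · by_cases hi2 : i = z2
          · exact Or.inl hi2
          · exact Or.inr (Finset.mem_singleton.mp (hx ▸
              Finset.mem_erase.mpr ⟨hi2, Finset.mem_erase.mpr ⟨hi1, hi⟩⟩))
        · rcases hi with rfl | rfl
          exacts [⟨hz2, hz12.symm⟩, ⟨hxS, hx1⟩]
      have hS2 : S \ {z2} = {z1, x} := by
        ext i
        simp only [Finset.mem_sdiff, Finset.mem_singleton, Finset.mem_insert]
        refine ⟨fun ⟨hi, hi2⟩ => ?_, fun hi => ?_⟩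
        · by_cases hi1 : i = z1
          · exact Or.inl hi1
          · exact Or.inr (Finset.mem_singleton.mp (hx ▸
              Finset.mem_erase.mpr ⟨hi2, Finset.mem_erase.mpr ⟨hi1, hi⟩⟩))
        · rcases hi with rfl | rfl
          exacts [⟨hz1, hz12⟩, ⟨hxS, hx2⟩]
      set c := co B e ν x w ^ 2 with hc
      have w1 : wt B e ν {z1} w = c ∧ wt B e ν (S \ {z1}) w = 2 * c := by
        rw [hS1]
        constructor
        · simp [wt, e2]
        · rw [wt, Finset.sum_pair hx2.symm, e1]; ring
      have w2 : wt B e ν {z2} w = c ∧ wt B e ν (S \ {z2}) w = 2 * c := by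
        rw [hS2]
        constructor
        · simp [wt, e1]
        · rw [wt, Finset.sum_pair hx1.symm, e2]; ring
      have hc0 : c ≠ 0 := pow_ne_zero 2 (mem_supp.mp hxS)
      have g1 := hperp (Finset.singleton_subset_iff.mpr hz1) hw1 hv1'
      have g2 := hperp (Finset.singleton_subset_iff.mpr hz2) hw2 hv2'
      rw [w1.1, w1.2] at g1
      rw [w2.1, w2.2] at g2
      have gg1 : γ1' = -2 * δ1' := mul_right_cancel₀ hc0 (by linear_combination g1)
      have gg2 : γ2' = -2 * δ2' := mul_right_cancel₀ hc0 (by linear_combination g2)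
      have hd1 : δ1' ≠ 0 := fun h0 => h1 (by
        rw [hv1', gg1, h0]; simp [X.space.zero])
      have hd2 : δ2' ≠ 0 := fun h0 => h2 (by
        rw [hv2', gg2, h0]; simp [X.space.zero])
      have h3 : (3 : F) ≠ 0 := fun h0 => hQw' (by
        rw [wt, ← Finset.add_sum_erase _ _ hz1, ← Finset.add_sum_erase _ _
          (Finset.mem_erase.mpr ⟨hz12.symm, hz2⟩), hx, Finset.sum_singleton, e1, e2, ← hc]
        linear_combination c * h0)
      rw [hv1', hv2'] at h12
      simp only [map_add, map_smul, LinearMap.add_apply, LinearMap.smul_apply, smul_eq_mul, hBr,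
        hS1, hS2] at h12
      rw [show ({z1} : Finset (Fin n)) ∩ {z2} = ∅ by simp [hz12],
        show ({z1} : Finset (Fin n)) ∩ {z1, x} = {z1} from Finset.inter_eq_left.mpr (by simp),
        show ({z2, x} : Finset (Fin n)) ∩ {z2} = {z2} from Finset.inter_eq_right.mpr (by simp),
        show ({z2, x} : Finset (Fin n)) ∩ {z1, x} = {x} by
          ext i; simp only [Finset.mem_inter, Finset.mem_insert, Finset.mem_singleton]
          constructor
          · rintro ⟨rfl | rfl, h'⟩
            · rcases h' with h' | h'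
              · exact absurd h' hz12.symm
              · exact h'
            · rfl
          · rintro rfl; simp] at h12
      rw [w1.1, w2.1, show wt B e ν ∅ w = 0 by simp [wt],
        show wt B e ν {x} w = c by simp [wt, hc]] at h12
      rw [gg1, gg2] at h12
      exact mul_ne_zero (mul_ne_zero (mul_ne_zero (mul_ne_zero X.two_nu h3) hd1) hd2) hc0
        (by linear_combination -h12)
    · exact h
  refine Or.inr ⟨hS4, fun i hi j hj => ?_, fun i hi j hj hij => ?_⟩
  · by_cases q1 : i ∈ A1 ↔ j ∈ A1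
    · exact b1.eq i hi j hj q1
    by_cases q2 : i ∈ A2 ↔ j ∈ A2
    · exact b2.eq i hi j hj q2
    -- a third index joins them
    obtain ⟨k, hk, r1, r2⟩ : ∃ k ∈ S, (i ∈ A1 ↔ k ∈ A1) ∧ (j ∈ A2 ↔ k ∈ A2) := by
      by_contra hcon
      push Not at hcon
      obtain ⟨k, hk, hki, hk1⟩ : ∃ k ∈ S, k ≠ i ∧ (i ∈ A1 ↔ k ∈ A1) := by
        by_cases hi1 : i ∈ A1
        · obtain ⟨k, hk, hki⟩ := Finset.exists_mem_ne (show 1 < A1.card by omega) i
          exact ⟨k, b1.sub hk, hki, iff_of_true hi1 hk⟩
        · obtain ⟨k, hk, hki⟩ := Finset.exists_mem_ne (show 1 < (S \ A1).card by omega) i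
          exact ⟨k, (Finset.mem_sdiff.mp hk).1, hki, iff_of_false hi1 (Finset.mem_sdiff.mp hk).2⟩
      have hk2 : i ∈ A2 ↔ k ∈ A2 := by
        have := hcon k hk hk1
        tauto
      refine hne.elim fun n1 n2 => ?_
      by_cases hi1 : i ∈ A1 <;> by_cases hi2 : i ∈ A2
      · exact n1 ((Finset.eq_of_subset_of_card_le (s := {i, k}) (by
            simp [Finset.insert_subset_iff, hi2, hk2.mp hi2])
            (by rw [Finset.card_pair hki.symm]; omega)).symm.trans
          (Finset.eq_of_subset_of_card_le (s := {i, k}) (by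
            simp [Finset.insert_subset_iff, hi1, hk1.mp hi1])
            (by rw [Finset.card_pair hki.symm]; omega)))
      · refine n2 ?_
        have e1 := Finset.eq_of_subset_of_card_le (s := {i, k}) (t := A1) (by
            simp [Finset.insert_subset_iff, hi1, hk1.mp hi1])
            (by rw [Finset.card_pair hki.symm]; omega)
        have e2 := Finset.eq_of_subset_of_card_le (s := {i, k}) (t := S \ A2) (by
            simp [Finset.insert_subset_iff, hi, hk, hi2, hk2.not.mp hi2])
            (by rw [Finset.card_pair hki.symm]; omega)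
        have h' := congrArg (S \ ·) (e2.symm.trans e1)
        simpa [comp b2.sub] using h'
      · refine n2 ((Finset.eq_of_subset_of_card_le (s := {i, k}) (by
            simp [Finset.insert_subset_iff, hi2, hk2.mp hi2])
            (by rw [Finset.card_pair hki.symm]; omega)).symm.trans
          (Finset.eq_of_subset_of_card_le (s := {i, k}) (by
            simp [Finset.insert_subset_iff, hi, hk, hi1, hk1.not.mp hi1])
            (by rw [Finset.card_pair hki.symm]; omega)))
      · have e1 := Finset.eq_of_subset_of_card_le (s := {i, k}) (t := S \ A1) (by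
            simp [Finset.insert_subset_iff, hi, hk, hi1, hk1.not.mp hi1])
            (by rw [Finset.card_pair hki.symm]; omega)
        have e2 := Finset.eq_of_subset_of_card_le (s := {i, k}) (t := S \ A2) (by
            simp [Finset.insert_subset_iff, hi, hk, hi2, hk2.not.mp hi2])
            (by rw [Finset.card_pair hki.symm]; omega)
        have h' := congrArg (S \ ·) (e2.symm.trans e1)
        exact n1 (by simpa [comp b2.sub, comp b1.sub] using h')
    exact (b1.eq i hi k hk r1).trans (b2.eq j hj k hk r2).symm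
  · have sep : ∀ {A : Finset (Fin n)} {v : ι → F}, Block B e ν w v A → ¬ (i ∈ A ↔ j ∈ A) →
        ∃ t ∈ plane w v, co B e ν i t ≠ 0 ∧ co B e ν j t = 0 := by
      intro A v b hne'
      by_cases hiA : i ∈ A
      · refine ⟨_, b.mem, by rw [X.co_part, if_pos hiA]; exact mem_supp.mp hi, ?_⟩
        rw [X.co_part, if_neg fun h => hne' (iff_of_true hiA h)]
      · have hjA : j ∈ A := by by_contra h; exact hne' (iff_of_false hiA h)
        refine ⟨w - part B e ν A w, Submodule.sub_mem _ (left_mem_plane w v) b.mem, ?_, ?_⟩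
        · rw [co_sub, X.co_part, if_neg hiA, sub_zero]; exact mem_supp.mp hi
        · rw [co_sub, X.co_part, if_pos hjA, sub_self]
    by_cases q1 : i ∈ A1 ↔ j ∈ A1
    · by_cases q2 : i ∈ A2 ↔ j ∈ A2
      · exfalso
        have pick : ∀ {A : Finset (Fin n)}, A.card = 2 → (S \ A).card = 2 →
            (i ∈ A ↔ j ∈ A) → A = {i, j} ∨ S \ A = {i, j} := by
          intro A hA hA' hq
          by_cases hiA : i ∈ A
          · exact Or.inl (Finset.eq_of_subset_of_card_le (by
              simp [Finset.insert_subset_iff, hiA, hq.mp hiA])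
              (by rw [Finset.card_pair hij]; omega)).symm
          · exact Or.inr (Finset.eq_of_subset_of_card_le (by
              simp [Finset.insert_subset_iff, hi, hj, hiA, hq.not.mp hiA])
              (by rw [Finset.card_pair hij]; omega)).symm
        rcases pick (by omega) (by omega) q1 with g1 | g1 <;>
          rcases pick (A := A2) (by omega) (by omega) q2 with g2 | g2
        · exact hne.1 (g2.trans g1.symm)
        · have h' := congrArg (S \ ·) (g2.trans g1.symm)
          exact hne.2 (by simpa [comp b2.sub] using h')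
        · exact hne.2 (g2.trans g1.symm)
        · have h' := congrArg (S \ ·) (g2.trans g1.symm)
          exact hne.1 (by simpa [comp b1.sub, comp b2.sub] using h')
      · obtain ⟨t, ht, h⟩ := sep b2 q2
        exact ⟨t, Or.inr ht, h⟩
    · obtain ⟨t, ht, h⟩ := sep b1 q1
      exact ⟨t, Or.inl ht, h⟩

end Frame

end Cfsg.Lib.Linear.FrameSmall
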