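import Cfsg.Agent.Lib.Linear.FrameSmall.Six.Norm

/-!
# Elements mapping a short plane to a plane of frame vectors
-/

set_option autoImplicit false

namespace Cfsg.Lib.Linear.FrameSmall

open Module Cfsg.Lib.Linear.Orth
open scoped Matrix

variable {ι : Type} [Fintype ι] [DecidableEq ι] {F : Type*} [Field F]
  {Q : (ι → F) → F} {B : LinearMap.BilinForm F (ι → F)}
  {e : Fin 6 → (ι → F)} {ν : F} {H : Subgroup (GL ι F)}

section Frame

variable (X : Frame Q B e ν)

include X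

/-- A monomial image of a frame vector has one coordinate. -/
theorem Frame.stab_single {g : GL ι F} (hg : g ∈ Stab e) {a b c : Fin 6} (hab : a ≠ b)
    (ha : co B e ν a (g.val *ᵥ e c) ≠ 0) : co B e ν b (g.val *ᵥ e c) = 0 := by
  obtain ⟨π, hπ⟩ := Frame.of_stab (e := e) hg
  obtain ⟨s, hs⟩ := hπ c
  rw [hs, co_smul, X.co_e] at ha ⊢
  split_ifs with hb
  · rw [if_neg (fun h => hab (h.trans hb.symm)), mul_zero] at ha
    exact absurd rfl ha
  · rw [mul_zero]

/-- A monomial image of a combination of two frame vectors has two coordinates. -/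
theorem Frame.stab_double {g : GL ι F} (hg : g ∈ Stab e) {a b c p q : Fin 6} (hab : a ≠ b)
    (hac : a ≠ c) (hbc : b ≠ c) (s t : F) :
    co B e ν a (g.val *ᵥ (s • e p + t • e q)) = 0 ∨ co B e ν b (g.val *ᵥ (s • e p + t • e q)) = 0 ∨
      co B e ν c (g.val *ᵥ (s • e p + t • e q)) = 0 := by
  obtain ⟨π, hπ⟩ := Frame.of_stab (e := e) hg
  obtain ⟨s1, hs1⟩ := hπ p
  obtain ⟨t1, ht1⟩ := hπ q
  simp only [Matrix.mulVec_add, Matrix.mulVec_smul, hs1, ht1, co_add, co_smul, X.co_e]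
  by_cases h1 : a = π p <;> by_cases h2 : a = π q <;> by_cases h3 : b = π p <;>
    by_cases h4 : b = π q <;> simp_all [eq_comm]

theorem Frame.co_rGL {v : ι → F} (hv : Q v ≠ 0) (l : Fin 6) (x : ι → F) :
    co B e ν l ((rGL Q v).val *ᵥ x) = co B e ν l x - (Q v)⁻¹ * B v x * co B e ν l v := by
  rw [rGL_act X.space hv, co_sub, co_smul]

theorem Frame.co_plane {a b : Fin 6} {y : ι → F} (hy : y ∈ plane (e a) (e b)) {l : Fin 6}
    (ha : l ≠ a) (hb : l ≠ b) : co B e ν l y = 0 := by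
  obtain ⟨α, β, rfl⟩ := Submodule.mem_span_pair.mp hy
  simp [co_add, co_smul, X.co_e, ha, hb]

theorem Frame.perp_coord {a : Fin 6} {y : ι → F} (hy : B (e a) y = 0) : co B e ν a y = 0 := by
  rw [X.B_e] at hy
  exact (mul_eq_zero.mp hy).resolve_left X.two_nu

end Frame

section Ctx

variable [Finite F] (T : Ctx Q B e ν H) (hΩ : ¬ Cfsg.Geo.omegaGL Q ≤ H) (p : ℕ) [Fact p.Prime]
  [CharP F p]

include T hΩ p

/-- An element mapping a frame vector to a short one stabilises the frame. -/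
theorem Ctx.maps_short {g : GL ι F} (hg : g ∈ H) {a : Fin 6}
    (h : IsShort e (g.val *ᵥ e a)) : g ∈ Stab e := by
  obtain ⟨u, hu, c, hc⟩ := h
  have hQ : Q (g.val *ᵥ e a) = ν := by rw [mem_iso.mp (T.le_iso hg), T.frame.norm]
  refine T.maps hΩ p hg (T.cls_e a) (T.cls_std hQ ?_)
  rw [hc] at hQ ⊢
  exact Std.of_short T.frame hu hQ

/-- A half-integral vector and a vector of the first two coordinates. -/
theorem Ctx.core {y w : ι → F} {c : F} (hy : Q y ≠ 0)
    (hyc : ∀ l : Fin 6, l ≠ 0 → l ≠ 1 → co B e ν l y = 0) (hc : c ≠ 0)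
    (hw0 : co B e ν 0 w = 0) (hw1 : co B e ν 1 w = 0)
    (hwc : ∀ l : Fin 6, l ≠ 0 → l ≠ 1 → co B e ν l w = c)
    (hmem : rGL Q y * rGL Q w ∈ H) : False := by
  have X := T.frame
  have C := X.space
  have y2 := hyc 2 (by decide) (by decide)
  have y3 := hyc 3 (by decide) (by decide)
  have y4 := hyc 4 (by decide) (by decide)
  have y5 := hyc 5 (by decide) (by decide)
  have w2 := hwc 2 (by decide) (by decide)
  have w3 := hwc 3 (by decide) (by decide)
  have w4 := hwc 4 (by decide) (by decide)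
  have w5 := hwc 5 (by decide) (by decide)
  set q := rGL Q (e 0 + (-1 : F) • e 1) * rGL Q (e 2 + (-1 : F) • e 3) *
    (rGL Q (e 1) * rGL Q (e 5)) with hq
  have hqH : q ∈ H :=
    mul_mem (T.rr_root (by decide) (by decide) (by norm_num) (by norm_num)) (T.rr_frame 1 5)
  have hqc : ∀ z l, co B e ν l (q.val *ᵥ z) = ![-co B e ν 1 z, co B e ν 0 z, co B e ν 3 z,
      co B e ν 2 z, co B e ν 4 z, -co B e ν 5 z] l := by
    intro z l
    have h1 : (-1 : F) ^ 2 = 1 := by norm_num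
    rw [hq]
    simp only [mul_act, X.co_root (show (0 : Fin 6) ≠ 1 by decide) _ h1,
      X.co_root (show (2 : Fin 6) ≠ 3 by decide) _ h1, X.co_refl, neg_neg, one_mul]
    fin_cases l <;> simp
  have hqI := T.le_iso hqH
  set y' := q.val *ᵥ y with hy'
  set w' := q.val *ᵥ w with hw'
  have hQy' : Q y' ≠ 0 := by rw [hy', mem_iso.mp hqI]; exact hy
  have hQw : Q w = ν * (4 * c ^ 2) := by
    rw [X.Q_co, Fin.sum_univ_six, hw0, hw1, w2, w3, w4, w5]; ring
  have hQw0 : Q w ≠ 0 := hQw ▸ mul_ne_zero X.nu (mul_ne_zero X.four (pow_ne_zero 2 hc))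
  have hQw' : Q w' = ν * (4 * c ^ 2) := by rw [hw', mem_iso.mp hqI, hQw]
  have hQw'0 : Q w' ≠ 0 := hQw' ▸ hQw ▸ hQw0
  set M := rGL Q y * rGL Q w * (q * (rGL Q y * rGL Q w) * q⁻¹) with hM
  have hMH : M ∈ H := mul_mem hmem (mul_mem (mul_mem hqH hmem) (inv_mem hqH))
  have hMe : ∀ z, M.val *ᵥ z = (rGL Q y).val *ᵥ ((rGL Q w).val *ᵥ
      ((rGL Q y').val *ᵥ ((rGL Q w').val *ᵥ z))) := fun z => by
    rw [hM, rr_conj C hy hQw0 hqI, ← hy', ← hw']
    simp only [mul_act]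
  have hyy : B y y' = 0 := by
    rw [X.B_co, Fin.sum_univ_six, hy']
    simp [hqc, y2, y3, y4, y5]
    right; ring
  -- `M` negates the first frame vector
  have hM0 : M.val *ᵥ e 0 = -e 0 := by
    have h1 : (rGL Q w').val *ᵥ e 0 = e 0 := rGL_fix C hQw'0 (by
      rw [C.symm, X.B_e, hw', hqc]
      simp [hw1])
    have h2 : (rGL Q w).val *ᵥ ((rGL Q y').val *ᵥ e 0) = (rGL Q y').val *ᵥ e 0 :=
      rGL_fix C hQw0 (by
        have hz : ∀ l : Fin 6, l ≠ 0 → l ≠ 1 →
            co B e ν l ((rGL Q y').val *ᵥ e 0) = 0 := fun l l0 l1 => by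
          have hl : co B e ν l y' = 0 := by
            rw [hy', hqc]
            fin_cases l <;> simp [y2, y3, y4, y5] at l0 l1 ⊢
          rw [X.co_rGL hQy', hl, X.co_e, if_neg l0]; ring
        rw [X.B_co, Fin.sum_univ_six]
        simp [hw0, hw1, hz])
    rw [hMe, h1, h2, ← mul_act]
    refine rr_neg C hy hQy' hyy (Submodule.mem_span_pair.mpr ?_)
    set s := co B e ν 0 y ^ 2 + co B e ν 1 y ^ 2 with hs
    have hs0 : s ≠ 0 := fun h0 => hy (by
      rw [X.Q_co, Fin.sum_univ_six, y2, y3, y4, y5]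
      linear_combination ν * h0)
    refine ⟨co B e ν 0 y / s, -(co B e ν 1 y / s), X.ext fun l => ?_⟩
    rw [co_add, co_smul, co_smul, X.co_e, hy', hqc]
    fin_cases l <;> simp [y2, y3, y4, y5] <;> field_simp <;> rw [hs] <;> ring
  -- and moves the third one to a half-integral vector
  set M' := M * (rGL Q (e 0) * rGL Q (e 1)) with hM'
  have hr : ∀ j : Fin 6, (rGL Q (e 1)).val *ᵥ e j = if j = 1 then -e j else e j := fun j => by
    refine X.ext fun l => ?_
    rw [X.co_refl]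
    by_cases hj : j = 1 <;> by_cases hl : l = 1 <;> simp [hj, hl, co_neg, X.co_e, eq_comm]
  have hM'0 : M'.val *ᵥ e 0 = e 0 := by
    rw [hM', mul_act M, mul_act (rGL Q (e 0)), hr, if_neg (by decide), rGL_self C (X.Qne 0), Matrix.mulVec_neg,
      hM0, neg_neg]
  have hst := T.fix_stab hΩ p (mul_mem hMH (T.rr_frame 0 1)) (hM' ▸ hM'0)
  have hM2 : ∀ l, co B e ν l ((rGL Q w').val *ᵥ e 2) =
      ![0, 0, 2⁻¹, -2⁻¹, -2⁻¹, 2⁻¹] l := by
    intro l
    have := X.nu
    have := X.two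
    have := X.four
    rw [X.co_rGL hQw'0, hQw', C.symm, X.B_e, X.co_e, hw', hqc, hqc]
    fin_cases l <;> simp [hw0, hw1, w2, w3, w4, w5] <;> field_simp <;> ring
  have h2' : M'.val *ᵥ e 2 = (rGL Q w').val *ᵥ e 2 := by
    rw [hM', mul_act M, mul_act (rGL Q (e 0)), hr, if_neg (by decide),
      rGL_fix C (X.Qne 0) (X.orth 0 2 (by decide)), hMe]
    have a1 : B y' ((rGL Q w').val *ᵥ e 2) = 0 := by
      rw [X.B_co, Fin.sum_univ_six]
      simp [hM2, hy', hqc, y2, y3, y4, y5]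
    have a2 : B w ((rGL Q w').val *ᵥ e 2) = 0 := by
      rw [X.B_co, Fin.sum_univ_six]
      simp [hM2, hw0, hw1, w2, w3, w4, w5]
    have a3 : B y ((rGL Q w').val *ᵥ e 2) = 0 := by
      rw [X.B_co, Fin.sum_univ_six]
      simp [hM2, y2, y3, y4, y5]
    rw [rGL_fix C hQy' a1, rGL_fix C hQw0 a2, rGL_fix C hy a3]
  have h := X.stab_single hst (a := 2) (b := 3) (c := 2) (by decide) (by
    rw [← hM', h2', hM2]; simpa using X.two)
  rw [← hM', h2', hM2] at h
  simp [X.two] at h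

/-- A vector in two short planes off the first two coordinates is short. -/
theorem Ctx.short_four {y w v1 v2 : ι → F} (hy : Q y ≠ 0)
    (hyc : ∀ l : Fin 6, l ≠ 0 → l ≠ 1 → co B e ν l y = 0) (hw : Q w ≠ 0) (h1 : Q v1 ≠ 0)
    (h2 : Q v2 ≠ 0) (w0 : co B e ν 0 w = 0) (w1 : co B e ν 1 w = 0) (a0 : co B e ν 0 v1 = 0)
    (b0 : co B e ν 0 v2 = 0) (hw1 : B w v1 = 0) (hw2 : B w v2 = 0) (h12 : B v1 v2 = 0)
    (m0 : rGL Q y * rGL Q w ∈ H) (m1 : rGL Q w * rGL Q v1 ∈ H)
    (m2 : rGL Q w * rGL Q v2 ∈ H) : IsShort e w := by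
  classical
  have X := T.frame
  have C := X.space
  have fix0 : ∀ {v}, co B e ν 0 v = 0 → B v (e 0) = 0 := fun {v} h => by
    rw [C.symm, X.B_e, h, mul_zero]
  have s1 := X.short_two hw h1 hw1
    (T.fix_stab hΩ p m1 (c := 0) (rr_fix C hw h1 (fix0 w0) (fix0 a0)))
  have s2 := X.short_two hw h2 hw2
    (T.fix_stab hΩ p m2 (c := 0) (rr_fix C hw h2 (fix0 w0) (fix0 b0)))
  rcases X.two_planes hw h1 h2 hw1 hw2 h12 s1 s2 with h | ⟨h4, hsq, -⟩
  · exact h
  exfalso
  have hS : ∀ l : Fin 6, l ≠ 0 → l ≠ 1 → l ∈ supp B e ν w := by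
    intro l l0 l1
    by_contra hl
    have : supp B e ν w ⊆ (({0, 1, l} : Finset (Fin 6))ᶜ) := fun i hi => by
      simp only [Finset.mem_compl, Finset.mem_insert, Finset.mem_singleton, not_or]
      exact ⟨fun h => mem_supp.mp hi (h ▸ w0), fun h => mem_supp.mp hi (h ▸ w1),
        fun h => hl (h ▸ hi)⟩
    have hc := Finset.card_le_card this
    rw [h4, Finset.card_compl, Fintype.card_fin] at hc
    have : ({0, 1, l} : Finset (Fin 6)).card = 3 := by
      rw [Finset.card_eq_three]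
      exact ⟨0, 1, l, by decide, Ne.symm l0, Ne.symm l1, rfl⟩
    omega
  set c := co B e ν 2 w
  have hc : c ≠ 0 := mem_supp.mp (hS 2 (by decide) (by decide))
  let ε : Fin 6 → F := fun l => if l = 0 ∨ l = 1 then 1 else co B e ν l w / c
  have hε : ∀ l, ε l ^ 2 = 1 := fun l => by
    simp only [ε]
    split_ifs with h
    · ring
    · push Not at h
      rw [div_pow, hsq l (hS l h.1 h.2) 2 (hS 2 (by decide) (by decide)),
        div_self (pow_ne_zero 2 hc)]
  have T' := T.perm 1 hε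
  have hεne : ∀ l, ε l ≠ 0 := fun l h => by simpa [h] using hε l
  have hco : ∀ (v : ι → F) (l : Fin 6),
      co B (fun i => ε i • e ((1 : Equiv.Perm (Fin 6)) i)) ν l v = ε l * co B e ν l v := by
    intro v l
    simp [co]
    ring
  refine T'.core hΩ p (y := y) (w := w) hy (fun l l0 l1 => ?_) hc ?_ ?_
    (fun l l0 l1 => ?_) ?_
  · rw [hco, hyc l l0 l1, mul_zero]
  · rw [hco, w0, mul_zero]
  · rw [hco, w1, mul_zero]
  · rw [hco]
    have hl2 : co B e ν l w ^ 2 = c ^ 2 := hsq l (hS l l0 l1) 2 (hS 2 (by decide) (by decide))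
    simp only [ε, l0, l1, or_self, if_false]
    field_simp
    linear_combination hl2
  · exact m0

/-- Two frame vectors mapped to the plane of two frame vectors. -/
theorem Ctx.fix_cc {k : GL ι F} (hk : k ∈ H) {a b : Fin 6} (hab : a ≠ b)
    (ha : k.val *ᵥ e a ∈ plane (e 0) (e 1)) (hb : k.val *ᵥ e b ∈ plane (e 0) (e 1)) :
    k ∈ Stab e := by
  classical
  have X := T.frame
  have C := X.space
  have hI := T.le_iso hk
  have hQ : ∀ i, Q (k.val *ᵥ e i) = ν := fun i => by rw [mem_iso.mp hI, X.norm]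
  have hne : ∀ i, Q (k.val *ᵥ e i) ≠ 0 := fun i => hQ i ▸ X.nu
  have hB : ∀ i j, i ≠ j → B (k.val *ᵥ e i) (k.val *ᵥ e j) = 0 := fun i j h => by
    rw [C.B_act hI, X.orth i j h]
  have hpl := plane_eq C X.two (X.Qne 0) (X.Qne 1) (X.orth 0 1 (by decide)) (hne a) (hne b)
    (hB a b hab) ha hb
  have hperp : ∀ i, i ≠ a → i ≠ b → ∀ y ∈ plane (e 0) (e 1), B y (k.val *ᵥ e i) = 0 :=
    fun i h1 h2 y hy => perp_plane (hB a i h1.symm) (hB b i h2.symm) (hpl ▸ hy)
  obtain ⟨x, hx⟩ := exists_outside (S := ({a, b} : Finset (Fin 6)))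
    (by have := Finset.card_le_two (a := a) (b := b); omega)
  obtain ⟨y, hy⟩ := exists_outside (S := ({a, b, x} : Finset (Fin 6)))
    (by have := Finset.card_le_three (a := a) (b := b) (c := x); omega)
  obtain ⟨z, hz⟩ := exists_outside (S := ({a, b, x, y} : Finset (Fin 6)))
    (by have := Finset.card_le_four (a := a) (b := b) (c := x) (d := y); omega)
  simp only [Finset.mem_insert, Finset.mem_singleton, not_or] at hx hy hz
  have cz : ∀ i, i ≠ a → i ≠ b →
      co B e ν 0 (k.val *ᵥ e i) = 0 ∧ co B e ν 1 (k.val *ᵥ e i) = 0 := fun i h1 h2 =>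
    ⟨X.perp_coord (hperp i h1 h2 _ (left_mem_plane _ _)),
      X.perp_coord (hperp i h1 h2 _ (right_mem_plane _ _))⟩
  have mem : ∀ i j, rGL Q (k.val *ᵥ e i) * rGL Q (k.val *ᵥ e j) ∈ H := fun i j => by
    rw [← rr_conj C (X.Qne i) (X.Qne j) hI]
    exact mul_mem (mul_mem hk (T.rr_frame i j)) (inv_mem hk)
  exact T.maps_short hΩ p hk (T.short_four hΩ p (hne a) (fun l l0 l1 => X.co_plane ha l0 l1)
    (hne x) (hne y) (hne z) (cz x hx.1 hx.2).1 (cz x hx.1 hx.2).2 (cz y hy.1 hy.2.1).1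
    (cz z hz.1 hz.2.1).1 (hB x y (Ne.symm hy.2.2)) (hB x z (Ne.symm hz.2.2.1))
    (hB y z (Ne.symm hz.2.2.2)) (mem a x) (mem x y) (mem x z))

/-- Three frame vectors mapped to the orthogonal space of a root and a frame vector. -/
theorem Ctx.fix_rc {k : GL ι F} (hk : k ∈ H) {x y z : Fin 6} (hxy : x ≠ y) (hxz : x ≠ z)
    (hyz : y ≠ z)
    (h : ∀ i, i = x ∨ i = y ∨ i = z →
      co B e ν 0 (k.val *ᵥ e i) = co B e ν 1 (k.val *ᵥ e i) ∧ co B e ν 2 (k.val *ᵥ e i) = 0) :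
    k ∈ Stab e := by
  classical
  have X := T.frame
  have C := X.space
  have hI := T.le_iso hk
  have hne : ∀ i, Q (k.val *ᵥ e i) ≠ 0 := fun i => by rw [mem_iso.mp hI, X.norm]; exact X.nu
  have hB : ∀ i j, i ≠ j → B (k.val *ᵥ e i) (k.val *ᵥ e j) = 0 := fun i j h => by
    rw [C.B_act hI, X.orth i j h]
  have spl : ∀ i j, (i = x ∨ i = y ∨ i = z) → (j = x ∨ j = y ∨ j = z) → i ≠ j →
      SPl B e ν (k.val *ᵥ e i) (k.val *ᵥ e j) := by
    intro i j hi hj hij
    refine X.short_two (hne i) (hne j) (hB i j hij) ?_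
    have hm := mul_mem (mul_mem hk (T.rr_frame i j)) (inv_mem hk)
    rw [rr_conj C (X.Qne i) (X.Qne j) hI] at hm
    exact T.fix_stab hΩ p hm (c := 2) (rr_fix C (hne i) (hne j)
      (by rw [C.symm, X.B_e, (h i hi).2, mul_zero]) (by rw [C.symm, X.B_e, (h j hj).2, mul_zero]))
  rcases X.two_planes (hne x) (hne y) (hne z) (hB x y hxy) (hB x z hxz) (hB y z hyz)
    (spl x y (Or.inl rfl) (Or.inr (Or.inl rfl)) hxy)
    (spl x z (Or.inl rfl) (Or.inr (Or.inr rfl)) hxz) with hs | ⟨h4, -, hsep⟩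
  · exact T.maps_short hΩ p hk hs
  exfalso
  obtain ⟨e01, e2⟩ := h x (Or.inl rfl)
  have h0 : co B e ν 0 (k.val *ᵥ e x) ≠ 0 := by
    intro h0
    have : supp B e ν (k.val *ᵥ e x) ⊆ ({3, 4, 5} : Finset (Fin 6)) := by
      intro i hi
      have hne' := mem_supp.mp hi
      fin_cases i
      exacts [absurd h0 hne', absurd (e01.symm.trans h0) hne', absurd e2 hne', by decide,
        by decide, by decide]
    have := (Finset.card_le_card this).trans Finset.card_le_three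
    omega
  obtain ⟨t, ht, ht0, ht1⟩ := hsep 0 (mem_supp.mpr h0) 1 (mem_supp.mpr (e01 ▸ h0)) (by decide)
  refine ht0 ?_
  rw [← ht1]
  have key : ∀ i, (i = x ∨ i = y ∨ i = z) → t ∈ plane (k.val *ᵥ e x) (k.val *ᵥ e i) →
      co B e ν 0 t = co B e ν 1 t := by
    intro i hi hti
    obtain ⟨α, β, rfl⟩ := Submodule.mem_span_pair.mp hti
    simp [co_add, co_smul, e01, (h i hi).1]
  exact ht.elim (key y (Or.inr (Or.inl rfl))) (key z (Or.inr (Or.inr rfl)))

end Ctx

end Cfsg.Lib.Linear.FrameSmall
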