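import Cfsg.Agent.Lib.Linear.FrameSmall.Maps

/-!
# Monomial involutions and planes spanned by short vectors
-/

set_option autoImplicit false

namespace Cfsg.Lib.Linear.FrameSmall

open Module Cfsg.Lib.Linear.Orth
open scoped Matrix

variable {ι : Type} [Fintype ι] [DecidableEq ι] {F : Type*} [Field F]
  {Q : (ι → F) → F} {B : LinearMap.BilinForm F (ι → F)}
  {n : ℕ} {e : Fin n → (ι → F)} {ν : F}

/-- The frame stabiliser. -/
abbrev Stab (e : Fin n → (ι → F)) : Subgroup (GL ι F) :=
  Cfsg.Geo.decompositionStabilizer (fun i => Submodule.span F {e i})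

/-- The span of two vectors. -/
abbrev plane (p q : ι → F) : Submodule F (ι → F) := Submodule.span F {p, q}

theorem left_mem_plane (p q : ι → F) : p ∈ plane p q := Submodule.subset_span (by simp)

theorem right_mem_plane (p q : ι → F) : q ∈ plane p q := Submodule.subset_span (by simp)

theorem plane_le {p q : ι → F} {M : Submodule F (ι → F)} (hp : p ∈ M) (hq : q ∈ M) :
    plane p q ≤ M :=
  Submodule.span_le.mpr (by rintro _ (rfl | rfl) <;> assumption)

theorem perp_plane {p q x y : ι → F} (hp : B p x = 0) (hq : B q x = 0) (hy : y ∈ plane p q) :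
    B y x = 0 := by
  obtain ⟨a, b, rfl⟩ := Submodule.mem_span_pair.mp hy
  simp [hp, hq]

section Space

variable (C : Space Q B)

include C

theorem rr_fix {p q y : ι → F} (hp : Q p ≠ 0) (hq : Q q ≠ 0) (hpy : B p y = 0) (hqy : B q y = 0) :
    (rGL Q p * rGL Q q).val *ᵥ y = y := by
  rw [mul_act, rGL_fix C hq hqy, rGL_fix C hp hpy]

theorem rr_sub_mem {p q : ι → F} (hp : Q p ≠ 0) (hq : Q q ≠ 0) (y : ι → F) :
    (rGL Q p * rGL Q q).val *ᵥ y - y ∈ plane p q := by
  rw [mul_act, rGL_act C hp, rGL_act C hq,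
    show ∀ a b : ι → F, y - a - b - y = -a - b from fun a b => by abel]
  exact Submodule.sub_mem _ (Submodule.neg_mem _ (Submodule.smul_mem _ _ (right_mem_plane p q)))
    (Submodule.smul_mem _ _ (left_mem_plane p q))

theorem rr_neg {p q y : ι → F} (hp : Q p ≠ 0) (hq : Q q ≠ 0) (hpq : B p q = 0)
    (hy : y ∈ plane p q) : (rGL Q p * rGL Q q).val *ᵥ y = -y := by
  obtain ⟨a, b, rfl⟩ := Submodule.mem_span_pair.mp hy
  rw [mul_act, Matrix.mulVec_add, Matrix.mulVec_smul, Matrix.mulVec_smul, rGL_self C hq,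
    rGL_fix C hq (by rw [C.symm, hpq]), Matrix.mulVec_add, Matrix.mulVec_smul, Matrix.mulVec_smul,
    rGL_self C hp, Matrix.mulVec_neg, rGL_fix C hp hpq]
  module

theorem rr_conj {p q : ι → F} (hp : Q p ≠ 0) (hq : Q q ≠ 0) {k : GL ι F}
    (hk : k ∈ isometryGroup F Q) :
    k * (rGL Q p * rGL Q q) * k⁻¹ = rGL Q (k.val *ᵥ p) * rGL Q (k.val *ᵥ q) := by
  rw [show k * (rGL Q p * rGL Q q) * k⁻¹ = k * rGL Q p * k⁻¹ * (k * rGL Q q * k⁻¹) by group,
    rGL_conj C hp hk, rGL_conj C hq hk]

theorem rr_det {p q : ι → F} (hp : Q p ≠ 0) (hq : Q q ≠ 0) :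
    (rGL Q p * rGL Q q).val.det = 1 := by
  rw [Units.val_mul, Matrix.det_mul, rGL_det C hp, rGL_det C hq]; ring

theorem rr_comm {p q : ι → F} (hp : Q p ≠ 0) (hq : Q q ≠ 0) (hpq : B p q = 0) :
    rGL Q p * rGL Q q = rGL Q q * rGL Q p := by
  have h := rGL_conj C hq (rGL_mem C hp)
  rw [rGL_fix C hp hpq] at h
  exact mul_inv_eq_iff_eq_mul.mp h

theorem rr_sq {p q : ι → F} (hp : Q p ≠ 0) (hq : Q q ≠ 0) (hpq : B p q = 0) :
    rGL Q p * rGL Q q * (rGL Q p * rGL Q q) = 1 := by
  nth_rewrite 2 [rr_comm C hp hq hpq]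
  rw [mul_assoc, ← mul_assoc (rGL Q q) (rGL Q q), rGL_sq C hq, one_mul, rGL_sq C hp]

/-- Two non-singular orthogonal vectors are independent. -/
theorem plane_dim (h2 : (2 : F) ≠ 0) {p q : ι → F} (hp : Q p ≠ 0) (hq : Q q ≠ 0)
    (hpq : B p q = 0) : finrank F (plane p q) = 2 := by
  have hli : LinearIndependent F ![p, q] := LinearIndependent.pair_iff.mpr fun a b h => by
    have h1 := congrArg (B p) h
    have h3 := congrArg (B q) h
    simp only [map_add, map_smul, map_zero, C.self, C.symm q p, hpq, smul_eq_mul, mul_zero,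
      add_zero, zero_add] at h1 h3
    exact ⟨(mul_eq_zero.mp h1).resolve_right (mul_ne_zero h2 hp),
      (mul_eq_zero.mp h3).resolve_right (mul_ne_zero h2 hq)⟩
  have h := finrank_span_eq_card hli
  rwa [Fintype.card_fin, Matrix.range_cons, Matrix.range_cons, Matrix.range_empty,
    Set.union_empty, Set.singleton_union] at h

theorem plane_eq (h2 : (2 : F) ≠ 0) {p q u v : ι → F} (hp : Q p ≠ 0) (hq : Q q ≠ 0)
    (hpq : B p q = 0) (hu : Q u ≠ 0) (hv : Q v ≠ 0) (huv : B u v = 0) (hum : u ∈ plane p q)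
    (hvm : v ∈ plane p q) : plane u v = plane p q :=
  Submodule.eq_of_le_of_finrank_eq (plane_le hum hvm)
    (by rw [plane_dim C h2 hu hv huv, plane_dim C h2 hp hq hpq])

end Space

/-- Short vectors with disjoint supports in a plane span it. -/
def SPl (B : LinearMap.BilinForm F (ι → F)) (e : Fin n → (ι → F)) (ν : F) (p q : ι → F) : Prop :=
  ∃ u v, Short e u ∧ Short e v ∧ Disjoint (supp B e ν u) (supp B e ν v) ∧ B u v = 0 ∧
    plane u v = plane p q

section Frame

variable (X : Frame Q B e ν)

include X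

theorem Frame.B_disjoint {x y : ι → F} (h : Disjoint (supp B e ν x) (supp B e ν y)) :
    B x y = 0 := by
  rw [X.B_co, Finset.sum_eq_zero fun i _ => ?_, mul_zero]
  by_cases hi : i ∈ supp B e ν x
  · rw [not_mem_supp.mp (Finset.disjoint_left.mp h hi), mul_zero]
  · rw [not_mem_supp.mp hi, zero_mul]

/-- An involution of the stabiliser as reflections in short vectors with disjoint supports. -/
theorem Frame.peel {z : GL ι F} (hz : z ∈ Stab e) (hI : z ∈ isometryGroup F Q) (hzz : z * z = 1) :
    ∃ (m : ℕ) (L : Fin m → (ι → F)), (∀ a, Short e (L a)) ∧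
      (∀ a b, a ≠ b → Disjoint (supp B e ν (L a)) (supp B e ν (L b))) ∧
      (∀ a, z.val *ᵥ L a = -L a) ∧ z.val.det = (-1) ^ m ∧
      ∀ y, (∀ a, B (L a) y = 0) → z.val *ᵥ y = y := by
  classical
  suffices key : ∀ k, ∀ z : GL ι F, (Finset.univ.filter fun i => z.val *ᵥ e i ≠ e i).card ≤ k →
      z ∈ Stab e → z ∈ isometryGroup F Q → z * z = 1 →
      ∃ (m : ℕ) (L : Fin m → (ι → F)), (∀ a, Short e (L a)) ∧
        (∀ a, ∀ i ∈ supp B e ν (L a), z.val *ᵥ e i ≠ e i) ∧
        (∀ a b, a ≠ b → Disjoint (supp B e ν (L a)) (supp B e ν (L b))) ∧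
        (∀ a, z.val *ᵥ L a = -L a) ∧ z.val.det = (-1) ^ m ∧
        ∀ y, (∀ a, B (L a) y = 0) → z.val *ᵥ y = y by
    obtain ⟨m, L, h1, -, h3, h4, h5, h6⟩ := key _ z le_rfl hz hI hzz
    exact ⟨m, L, h1, h3, h4, h5, h6⟩
  intro k
  induction k with
  | zero =>
    intro z hc _ _ _
    have hfix : ∀ i, z.val *ᵥ e i = e i := fun i => by
      by_contra h
      exact Finset.notMem_empty i (Finset.card_eq_zero.mp (Nat.le_zero.mp hc) ▸
        Finset.mem_filter.mpr ⟨Finset.mem_univ i, h⟩)
    have h1 : z = 1 := gl_ext fun y => by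
      rw [Units.val_one, Matrix.one_mulVec]
      conv_lhs => rw [← X.expand y]
      rw [Matrix.mulVec_sum]
      simp only [Matrix.mulVec_smul, hfix]
      exact X.expand y
    exact ⟨0, Fin.elim0, fun a => a.elim0, fun a => a.elim0, fun a => a.elim0, fun a => a.elim0,
      by simp [h1], fun y _ => by simp [h1]⟩
  | succ k ih =>
    intro z hc hz hI hzz
    by_cases hall : ∀ i, z.val *ᵥ e i = e i
    · exact ih z (by simp [hall]) hz hI hzz
    push Not at hall
    obtain ⟨i, hi⟩ := hall
    obtain ⟨π, s, hm⟩ := X.exists_mono hI hz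
    have hinv := hm.invol X hzz
    have hsq := hm.sq X
    -- the short vector
    obtain ⟨u, hu, hsu, hzu, hfix⟩ : ∃ u, Short e u ∧
        (∀ l ∈ supp B e ν u, l = i ∨ l = π i) ∧ z.val *ᵥ u = -u ∧
        (rGL Q u * z).val *ᵥ e i = e i := by
      by_cases hp : π i = i
      · have hsi : s i = -1 := (sq_eq_one_iff.mp (hsq i)).resolve_left fun h => hi (by
          rw [hm.eq, hp, h, one_smul])
        refine ⟨e i, Or.inl ⟨i, rfl⟩, fun l hl => Or.inl ?_, by rw [hm.eq, hp, hsi, neg_one_smul], ?_⟩
        · by_contra h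
          rw [mem_supp, X.co_e, if_neg h] at hl
          exact hl rfl
        · rw [mul_act, hm.eq, hp, hsi, neg_one_smul, Matrix.mulVec_neg,
            rGL_self X.space (X.Qne i), neg_neg]
      · have hσ : (-s i) ^ 2 = 1 := by rw [neg_sq, hsq]
        have hs : s (π i) * s i = 1 := by
          have h := congrArg (fun g : GL ι F => co B e ν i (g.val *ᵥ e i)) hzz
          simp only [mul_act, hm.eq, Matrix.mulVec_smul, hinv, co_smul, Units.val_one,
            Matrix.one_mulVec, X.co_e, if_true, mul_one] at h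
          linear_combination h
        refine ⟨_, Or.inr ⟨i, π i, Ne.symm hp, -s i, hσ, rfl⟩, fun l hl => ?_, ?_, ?_⟩
        · by_contra h
          push Not at h
          rw [mem_supp, co_add, co_smul, X.co_e, X.co_e, if_neg h.1, if_neg h.2] at hl
          simp at hl
        · have hs' : s i * s (π i) = 1 := by linear_combination hs
          rw [Matrix.mulVec_add, Matrix.mulVec_smul, hm.eq, hm.eq, hinv, smul_smul, neg_mul, hs']
          module
        · rw [mul_act, hm.eq, Matrix.mulVec_smul]
          refine X.ext fun l => ?_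
          rw [co_smul, X.co_root (Ne.symm hp) _ hσ, neg_neg]
          simp only [X.co_e]
          by_cases h1 : l = i
          · subst h1; simp only [if_true]; linear_combination hsq l
          by_cases h2 : l = π i
          · subst h2; simp [hp, Ne.symm hp]
          simp [h1, h2]
    have hQu := hu.Qne X
    have C := X.space
    have hruz : rGL Q u * z = z * rGL Q u := by
      have h := rGL_conj C hQu hI
      rw [hzu, ← neg_one_smul F u, rGL_smul' X hQu (neg_ne_zero.mpr one_ne_zero)] at h
      exact (mul_inv_eq_iff_eq_mul.mp h).symm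
    obtain ⟨z', hz'⟩ : ∃ z', z' = rGL Q u * z := ⟨_, rfl⟩
    rw [← hz'] at hfix
    have hzz' : z' * z' = 1 := by
      rw [hz']
      nth_rewrite 2 [hruz]
      rw [mul_assoc, ← mul_assoc z z, hzz, one_mul, rGL_sq C hQu]
    have hsame : ∀ l, l ≠ i → l ≠ π i → z'.val *ᵥ e l = z.val *ᵥ e l := fun l h1 h2 => by
      rw [hz', hruz, mul_act, rGL_fix C hQu]
      rw [X.space.symm, X.B_e, not_mem_supp.mp fun h => (hsu l h).elim h1 h2, mul_zero]
    have hfix2 : z'.val *ᵥ e (π i) = e (π i) := by
      have h : z'.val *ᵥ (z.val *ᵥ e i) = z.val *ᵥ e i := by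
        rw [hz', ← mul_act]
        conv_lhs => rw [mul_assoc, ← mul_assoc, hruz, mul_assoc]
        rw [← hz', mul_act, hfix]
      rw [hm.eq, Matrix.mulVec_smul] at h
      exact smul_right_injective _ (hm.ne X i) h
    have hsub : ∀ l, z'.val *ᵥ e l ≠ e l → z.val *ᵥ e l ≠ e l ∧ l ≠ i ∧ l ≠ π i := fun l hl => by
      have h1 : l ≠ i := fun h => hl (h ▸ hfix)
      have h2 : l ≠ π i := fun h => hl (h ▸ hfix2)
      exact ⟨hsame l h1 h2 ▸ hl, h1, h2⟩
    obtain ⟨m, L, hL, hLs, hLd, hLn, hdet, hLf⟩ := ih z' (by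
      have h := Finset.card_le_card (show (Finset.univ.filter fun l => z'.val *ᵥ e l ≠ e l) ⊆
          (Finset.univ.filter fun l => z.val *ᵥ e l ≠ e l).erase i from fun l hl => by
        simp only [Finset.mem_filter, Finset.mem_univ, true_and] at hl
        simp only [Finset.mem_erase, Finset.mem_filter, Finset.mem_univ, true_and]
        exact ⟨(hsub l hl).2.1, (hsub l hl).1⟩)
      rw [Finset.card_erase_of_mem (by simpa using hi)] at h
      omega) (hz' ▸ mul_mem (hu.stab X) hz) (hz' ▸ mul_mem (rGL_mem C hQu) hI) hzz'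
    have hd0 : ∀ a, Disjoint (supp B e ν u) (supp B e ν (L a)) := fun a =>
      Finset.disjoint_left.mpr fun l h1 h2 => by
        obtain ⟨-, q1, q2⟩ := hsub l (hLs a l h2)
        exact (hsu l h1).elim q1 q2
    have hzv : ∀ v, z.val *ᵥ v = (rGL Q u).val *ᵥ (z'.val *ᵥ v) := fun v => by
      rw [← mul_act, hz', ← mul_assoc, rGL_sq C hQu, one_mul]
    refine ⟨m + 1, Fin.cons u L, fun a => Fin.cases hu hL a, fun a => ?_, fun a b hab => ?_,
      fun a => ?_, ?_, fun y hy => ?_⟩
    · refine Fin.cases ?_ (fun a => ?_) a <;> intro l hl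
      · rcases hsu l (by simpa using hl) with rfl | rfl
        · exact hi
        · intro h
          rw [hm.eq, hinv] at h
          by_cases hp : π i = i
          · exact hi (by rw [hm.eq, hp]; rw [hp] at h; exact h)
          · have := congrArg (co B e ν i) h
            rw [co_smul, X.co_e, X.co_e, if_pos rfl, if_neg (Ne.symm hp), mul_one] at this
            exact hm.ne X _ this
      · exact (hsub l (hLs a l (by simpa using hl))).1
    · induction a using Fin.cases with
      | zero =>
        induction b using Fin.cases with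
        | zero => exact absurd rfl hab
        | succ b => simpa using hd0 b
      | succ a =>
        induction b using Fin.cases with
        | zero => simpa using (hd0 a).symm
        | succ b => simpa using hLd a b (fun h => hab (by rw [h]))
    · induction a using Fin.cases with
      | zero => simpa using hzu
      | succ a =>
        simp only [Fin.cons_succ]
        rw [hzv, hLn, Matrix.mulVec_neg, rGL_fix C hQu (X.B_disjoint (hd0 a))]
    · have h : z.val.det = (rGL Q u).val.det * z'.val.det := by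
        rw [hz', Units.val_mul, Matrix.det_mul, ← mul_assoc, rGL_det C hQu]; ring
      rw [h, hdet, rGL_det C hQu, pow_succ]; ring
    · rw [hzv, hLf y (fun a => by simpa using hy a.succ), rGL_fix C hQu (by simpa using hy 0)]

/-- A product of two reflections in the stabiliser. -/
theorem Frame.short_two {p q : ι → F} (hp : Q p ≠ 0) (hq : Q q ≠ 0) (hpq : B p q = 0)
    (h : rGL Q p * rGL Q q ∈ Stab e) : SPl B e ν p q := by
  have C := X.space
  obtain ⟨m, L, hL, hd, hn, hdet, hf⟩ :=
    X.peel h (mul_mem (rGL_mem C hp) (rGL_mem C hq)) (rr_sq C hp hq hpq)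
  have hmem : ∀ a, L a ∈ plane p q := fun a => by
    have h := rr_sub_mem C hp hq (L a)
    rw [hn] at h
    have h' := Submodule.smul_mem _ (-(2⁻¹ : F)) h
    convert h' using 1
    have := X.two
    match_scalars
    field_simp
    ring
  have hm0 : m ≠ 0 := fun h0 => by
    subst h0
    have h1 := hf p fun a => a.elim0
    rw [rr_neg C hp hq hpq (left_mem_plane p q)] at h1
    have := congrArg (B p) h1
    rw [map_neg, C.self] at this
    exact mul_ne_zero (mul_ne_zero X.two X.two) hp (by linear_combination -this)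
  have hm1 : m ≠ 1 := fun h1 => by
    subst h1
    rw [rr_det C hp hq, pow_one] at hdet
    exact X.two (by linear_combination hdet)
  have hpos : 0 < m ∧ 1 < m := by omega
  set a : Fin m := ⟨0, hpos.1⟩
  set b : Fin m := ⟨1, hpos.2⟩
  have hab : a ≠ b := fun hh => by simp [a, b, Fin.ext_iff] at hh
  have huv := X.B_disjoint (hd a b hab)
  exact ⟨L a, L b, hL a, hL b, hd a b hab, huv,
    plane_eq C X.two hp hq hpq ((hL a).Qne X) ((hL b).Qne X) huv (hmem a) (hmem b)⟩

/-- An involution of determinant one with a fixed vector, in dimension six. -/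
theorem Frame.invol_six (h6 : n = 6) {z : GL ι F} (hz : z ∈ Stab e) (hI : z ∈ isometryGroup F Q)
    (hzz : z * z = 1) (hz1 : z ≠ 1) (hdet : z.val.det = 1) {x : ι → F} (hx0 : x ≠ 0)
    (hx : z.val *ᵥ x = x) :
    ∃ u v, Short e u ∧ Short e v ∧ Disjoint (supp B e ν u) (supp B e ν v) ∧ B u v = 0 ∧
      ∃ η : F, ∀ y, z.val *ᵥ y = η • y ↔ y ∈ plane u v := by
  classical
  have C := X.space
  have hcard : Fintype.card ι = 6 := X.card.trans h6
  -- orthogonal non-singular families have at most six members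
  have bound : ∀ {κ : Type} [Fintype κ] (L : κ → ι → F), (∀ a, Q (L a) ≠ 0) →
      (∀ a b, a ≠ b → B (L a) (L b) = 0) →
      LinearIndependent F L ∧ Fintype.card κ ≤ 6 := by
    intro κ _ L hQ ho
    have hli : LinearIndependent F L := by
      rw [Fintype.linearIndependent_iff]
      intro c hc a
      have h := congrArg (B (L a)) hc
      rw [map_sum, Finset.sum_eq_single a (fun b _ hb => by rw [map_smul, ho a b (Ne.symm hb),
        smul_zero]) (fun h => absurd (Finset.mem_univ a) h), map_smul, map_zero, C.self,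
        smul_eq_mul] at h
      exact (mul_eq_zero.mp h).resolve_right (mul_ne_zero X.two (hQ a))
    have := hli.fintype_card_le_finrank
    rw [finrank_fintype_fun_eq_card, hcard] at this
    exact ⟨hli, this⟩
  have two_case : ∀ (z : GL ι F) (L : Fin 2 → ι → F), (∀ a, Short e (L a)) →
      (∀ a b, a ≠ b → Disjoint (supp B e ν (L a)) (supp B e ν (L b))) →
      (∀ a, z.val *ᵥ L a = -L a) → (∀ y, (∀ a, B (L a) y = 0) → z.val *ᵥ y = y) →
      ∃ u v, Short e u ∧ Short e v ∧ Disjoint (supp B e ν u) (supp B e ν v) ∧ B u v = 0 ∧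
        ∀ y, z.val *ᵥ y = -y ↔ y ∈ plane u v := by
    intro z L hL hd hn hf
    have huv := X.B_disjoint (hd 0 1 (by decide))
    refine ⟨L 0, L 1, hL 0, hL 1, hd 0 1 (by decide), huv, fun y => ⟨fun hy => ?_, fun hy => ?_⟩⟩
    · set y' := y - (B (L 0) y / B (L 0) (L 0)) • L 0 - (B (L 1) y / B (L 1) (L 1)) • L 1 with hy'
      have hs : ∀ a, B (L a) (L a) ≠ 0 := fun a => by
        rw [C.self]; exact mul_ne_zero X.two ((hL a).Qne X)
      have hfx := hf y' (Fin.forall_fin_two.mpr ⟨by simp [hy', huv, hs 0],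
        by simp [hy', C.symm (L 1) (L 0), huv, hs 1]⟩)
      have hng : z.val *ᵥ y' = -y' := by
        rw [hy', Matrix.mulVec_sub, Matrix.mulVec_sub, Matrix.mulVec_smul, Matrix.mulVec_smul, hy,
          hn, hn]
        module
      have h0 : y' = 0 := by
        have h := (smul_right_injective (ι → F) X.two) (show (2 : F) • y' = (2 : F) • 0 by
          rw [smul_zero, two_smul]
          nth_rewrite 1 [← hfx]
          rw [hng, neg_add_cancel])
        exact h
      rw [hy', sub_sub, sub_eq_zero] at h0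
      rw [h0]
      exact Submodule.add_mem _ (Submodule.smul_mem _ _ (left_mem_plane _ _))
        (Submodule.smul_mem _ _ (right_mem_plane _ _))
    · obtain ⟨a, b, rfl⟩ := Submodule.mem_span_pair.mp hy
      rw [Matrix.mulVec_add, Matrix.mulVec_smul, Matrix.mulVec_smul, hn, hn]
      module
  obtain ⟨m, L, hL, hd, hn, hdm, hf⟩ := X.peel hz hI hzz
  have hLo : ∀ a b, a ≠ b → B (L a) (L b) = 0 := fun a b h => X.B_disjoint (hd a b h)
  obtain ⟨hli, hm6⟩ := bound L (fun a => (hL a).Qne X) hLo
  rw [Fintype.card_fin] at hm6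
  have hm0 : m ≠ 0 := fun h0 => hz1 (gl_ext fun y => by
    subst h0; rw [hf y fun a => a.elim0, Units.val_one, Matrix.one_mulVec])
  have hodd : ∀ {m : ℕ}, (1 : F) = (-1) ^ m → Even m := fun {m} h => by
    by_contra ho
    rw [(Nat.not_even_iff_odd.mp ho).neg_one_pow] at h
    exact X.two (by linear_combination h)
  have hev : Even m := hodd (hdet ▸ hdm)
  by_cases hm2 : m = 2
  · subst hm2
    obtain ⟨u, v, h1, h2, h3, h4, h5⟩ := two_case z L hL hd hn hf
    exact ⟨u, v, h1, h2, h3, h4, -1, fun y => by rw [neg_one_smul]; exact h5 y⟩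
  -- apply the same to `-z`
  obtain ⟨w, hw, hwy⟩ : ∃ w : GL ι F, w ∈ Stab e ∧ ∀ y, w.val *ᵥ y = -(z.val *ᵥ y) := by
    refine ⟨-z, ?_, fun y => by rw [Units.val_neg, Matrix.neg_mulVec]⟩
    obtain ⟨π, hπ⟩ := Frame.of_stab (e := e) hz
    refine X.mem_stab π fun i => ?_
    obtain ⟨s, hs⟩ := hπ i
    refine ⟨-s, neg_ne_zero.mpr fun h0 => ?_, by
      rw [Units.val_neg, Matrix.neg_mulVec, hs, neg_smul]⟩
    rw [h0, zero_smul] at hs
    exact act_ne_zero (fun h => X.Qne i (by rw [h, C.zero])) hs
  have hwI : w ∈ isometryGroup F Q := mem_iso.mpr fun y => by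
    rw [hwy, C.neg, mem_iso.mp hI]
  have hzy : ∀ y, z.val *ᵥ (z.val *ᵥ y) = y := fun y => by
    rw [← mul_act, hzz, Units.val_one, Matrix.one_mulVec]
  have hww : w * w = 1 := gl_ext fun y => by
    rw [mul_act, hwy, hwy, Matrix.mulVec_neg, neg_neg, hzy, Units.val_one, Matrix.one_mulVec]
  have hwdet : w.val.det = 1 := by
    have : w.val = -z.val := Matrix.ext_of_mulVec_single fun j => by
      rw [hwy, Matrix.neg_mulVec]
    rw [this, Matrix.det_neg, hcard, hdet]
    norm_num
  obtain ⟨m', L', hL', hd', hn', hdm', hf'⟩ := X.peel hw hwI hww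
  have hfix : ∀ a, z.val *ᵥ L' a = L' a := fun a => by
    have := hn' a
    rw [hwy] at this
    exact neg_injective this
  have hsum : m + m' ≤ 6 := by
    have := (bound (Sum.elim L L') (fun a => by rcases a with a | a
                                                exacts [(hL a).Qne X, (hL' a).Qne X])
      (fun a b hab => by
        have cross : ∀ a b, B (L a) (L' b) = 0 := fun a b => by
          have h := C.B_act hI (L a) (L' b)
          rw [hn, hfix, map_neg, LinearMap.neg_apply] at h
          exact mul_left_cancel₀ X.two (by linear_combination -h)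
        rcases a with a | a <;> rcases b with b | b
        · exact hLo a b fun h => hab (h ▸ rfl)
        · exact cross a b
        · rw [C.symm]; exact cross b a
        · exact X.B_disjoint (hd' a b fun h => hab (h ▸ rfl)))).2
    rwa [Fintype.card_sum, Fintype.card_fin, Fintype.card_fin] at this
  have hev' : Even m' := hodd (hwdet ▸ hdm')
  have hm' : m' ≠ 0 := fun h0 => by
    subst h0
    have h := hf' x fun a => a.elim0
    rw [hwy, hx] at h
    exact hx0 (by
      have h2 : (2 : F) • x = 0 := by rw [two_smul]; nth_rewrite 1 [← h]; rw [neg_add_cancel]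
      exact (smul_eq_zero.mp h2).resolve_left X.two)
  obtain ⟨c, hc⟩ := hev
  obtain ⟨c', hc'⟩ := hev'
  obtain rfl : m' = 2 := by omega
  obtain ⟨u, v, h1, h2, h3, h4, h5⟩ := two_case w L' hL' hd' hn' hf'
  exact ⟨u, v, h1, h2, h3, h4, 1, fun y => by rw [one_smul, ← h5 y, hwy, neg_inj]⟩

end Frame

end Cfsg.Lib.Linear.FrameSmall
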